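import Cfsg.Agent.Lib.StructB.Fi24Out.Base

/-!
# Every automorphism of the commutator subgroup of the presented Fi24 is a conjugation
-/

set_option autoImplicit false
set_option maxRecDepth 100000
set_option linter.unusedSectionVars false

namespace CfsgLib.StructB.Fi24Out

open CfsgLib.InvChar CfsgLib.InvChar.Coset Cfsg.Spor CfsgLib.KnownA.FischerOut

/-- The value of an automorphism of the even part. -/
noncomputable def ap (φ : MulAut ↥(commutator Fi24)) (u : Fi24) : Fi24 :=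
  haveI := Classical.dec (u ∈ commutator Fi24)
  if h : u ∈ commutator Fi24 then (φ ⟨u, h⟩ : Fi24) else 1

theorem ap_def (φ : MulAut ↥(commutator Fi24)) {u : Fi24} (h : u ∈ commutator Fi24) :
    ap φ u = (φ ⟨u, h⟩ : Fi24) := by simp [ap, h]

theorem ap_mem (φ : MulAut ↥(commutator Fi24)) (u : Fi24) : ap φ u ∈ commutator Fi24 := by
  by_cases h : u ∈ commutator Fi24
  · rw [ap_def φ h]; exact (φ ⟨u, h⟩).2
  · simp [ap, h]

theorem ap_mul (φ : MulAut ↥(commutator Fi24)) {u v : Fi24} (hu : u ∈ commutator Fi24)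
    (hv : v ∈ commutator Fi24) : ap φ (u * v) = ap φ u * ap φ v := by
  rw [ap_def φ hu, ap_def φ hv, ap_def φ (mul_mem hu hv), ← Subgroup.coe_mul, ← map_mul]
  rfl

theorem ap_one (φ : MulAut ↥(commutator Fi24)) : ap φ 1 = 1 := by
  rw [ap_def φ (one_mem _)]
  exact congrArg Subtype.val (map_one φ)

theorem ap_pow (φ : MulAut ↥(commutator Fi24)) {u : Fi24} (hu : u ∈ commutator Fi24) (n : ℕ) :
    ap φ (u ^ n) = ap φ u ^ n := by
  induction n with
  | zero => rw [pow_zero, pow_zero, ap_one]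
  | succ n ih => rw [pow_succ, pow_succ, ap_mul φ (pow_mem hu n) hu, ih]

theorem ap_inv (φ : MulAut ↥(commutator Fi24)) {u : Fi24} (hu : u ∈ commutator Fi24) :
    ap φ u⁻¹ = (ap φ u)⁻¹ := by
  rw [ap_def φ hu, ap_def φ (inv_mem hu), ← Subgroup.coe_inv, ← map_inv]
  rfl

theorem ap_inj (φ : MulAut ↥(commutator Fi24)) {u v : Fi24} (hu : u ∈ commutator Fi24)
    (hv : v ∈ commutator Fi24) (h : ap φ u = ap φ v) : u = v := by
  rw [ap_def φ hu, ap_def φ hv] at h
  exact congrArg Subtype.val (φ.injective (Subtype.ext h))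

theorem ap_commute (φ : MulAut ↥(commutator Fi24)) {u v : Fi24} (hu : u ∈ commutator Fi24)
    (hv : v ∈ commutator Fi24) (h : Commute u v) : Commute (ap φ u) (ap φ v) := by
  show ap φ u * ap φ v = ap φ v * ap φ u
  rw [← ap_mul φ hu hv, ← ap_mul φ hv hu, h.eq]

theorem ap_orderOf (φ : MulAut ↥(commutator Fi24)) {u : Fi24} (hu : u ∈ commutator Fi24) :
    orderOf (ap φ u) = orderOf u := by
  rw [ap_def φ hu, Subgroup.orderOf_coe, MulEquiv.orderOf_eq, Subgroup.orderOf_mk]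

/-- Conjugation by an element of Fi24. -/
noncomputable def cn (g : Fi24) : MulAut ↥(commutator Fi24) := MulAut.conjNormal g

theorem ap_cn_mul (g : Fi24) (φ : MulAut ↥(commutator Fi24)) {u : Fi24} (hu : u ∈ commutator Fi24) :
    ap (cn g * φ) u = g * ap φ u * g⁻¹ := by
  rw [ap_def _ hu, ap_def φ hu, MulAut.mul_apply, cn, MulAut.conjNormal_apply]

theorem ap_mul_cn (g : Fi24) (φ : MulAut ↥(commutator Fi24)) {u : Fi24} (hu : u ∈ commutator Fi24) :
    ap (φ * cn g) u = ap φ (g * u * g⁻¹) := by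
  have hm := (inferInstance : (commutator Fi24).Normal).conj_mem u hu g
  rw [ap_def _ hu, ap_def φ hm, MulAut.mul_apply]
  exact congrArg Subtype.val (congrArg φ (Subtype.ext (MulAut.conjNormal_apply g ⟨u, hu⟩)))

theorem card_even : Nat.card ↥(commutator Fi24) = 1255205709190661721292800 := SporFi24.card_commutator

/-- Automorphisms preserve the products of two transpositions. -/
theorem ap_twoA (φ : MulAut ↥(commutator Fi24)) {u : Fi24} (h : TwoA u) : TwoA (ap φ u) := by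
  haveI := SporFi24.finite
  haveI : Fact (Nat.Prime 11) := ⟨by norm_num⟩
  obtain ⟨d, hd, e, he, hne, hde, rfl⟩ := h
  obtain ⟨u₀, hu₀⟩ : ∃ u₀, u₀ = l * SporFi24.gen 4 := ⟨_, rfl⟩
  have hm4 := gen_mem_D (x := 2) (by norm_num)
  have hc4 := gen_comm_l (x := 2) (by norm_num)
  have hu₀m : u₀ ∈ commutator Fi24 := hu₀ ▸ D_mul_even l_mem_D hm4
  -- the image of the base product
  have hcard : 11 ^ (Nat.card ↥(commutator Fi24)).factorization 11 = 11 := by
    rw [card_even, show (1255205709190661721292800 : ℕ) = 11 ^ 1 * 114109609926423792844800 by norm_num,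
      Nat.factorization_mul (by norm_num) (by norm_num), Finsupp.add_apply,
      Nat.Prime.factorization_pow (by norm_num : Nat.Prime 11), Finsupp.single_eq_same,
      Nat.factorization_eq_zero_of_not_dvd (by norm_num), pow_one]
  obtain ⟨X', hX'⟩ : ∃ X' : ↥(commutator Fi24), X' = ⟨X, X_mem⟩ := ⟨_, rfl⟩
  have hXo : orderOf X' = 11 := by rw [hX', Subgroup.orderOf_mk, orderOf_X]
  have hYo : orderOf (φ X') = 11 := by rw [MulEquiv.orderOf_eq, hXo]
  let P : Sylow 11 ↥(commutator Fi24) := Sylow.ofCard (Subgroup.zpowers (φ X'))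
    (by rw [Nat.card_zpowers, hYo, hcard])
  let Q : Sylow 11 ↥(commutator Fi24) := Sylow.ofCard (Subgroup.zpowers X')
    (by rw [Nat.card_zpowers, hXo, hcard])
  obtain ⟨g, hg⟩ := MulAction.exists_smul_eq ↥(commutator Fi24) P Q
  have hmem : X' ∈ (Q : Subgroup ↥(commutator Fi24)) := by simp [Q]
  rw [← hg, Sylow.coe_subgroup_smul, Subgroup.mem_smul_pointwise_iff_exists] at hmem
  obtain ⟨y, hy, hyx⟩ := hmem
  have hy' : y ∈ Subgroup.zpowers (φ X') := by simpa [P] using hy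
  obtain ⟨k, rfl⟩ := Subgroup.mem_zpowers_iff.1 hy'
  have hcomm : Commute u₀ X := hu₀ ▸ X_comm.symm.mul_left X_commute.1.symm
  have hordu : orderOf u₀ = 2 := by
    have h1 : u₀ ^ 2 = 1 := by
      rw [hu₀, hc4.symm.mul_pow, pow_two, pow_two, l_mul_self, D_mul_self hm4, one_mul]
    refine orderOf_eq_prime h1 fun h => gen_ne_l (x := 2) (by norm_num) ?_
    rw [hu₀] at h
    rw [← inv_eq_of_mul_eq_one_right h, l_inv]
  have hgu : TwoA ((g : Fi24) * ap φ u₀ * (g : Fi24)⁻¹) := by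
    refine twoA_of_commute_X (mul_mem (mul_mem g.2 (ap_mem φ u₀)) (inv_mem g.2)) ?_ ?_
    · rw [show (g : Fi24) * ap φ u₀ * (g : Fi24)⁻¹ = MulAut.conj (g : Fi24) (ap φ u₀) from rfl,
        MulEquiv.orderOf_eq, ap_orderOf φ hu₀m, hordu]
    · have h1 : Commute (φ ⟨u₀, hu₀m⟩) (φ X' ^ k) := by
        refine Commute.zpow_right ?_ k
        exact (show Commute (⟨u₀, hu₀m⟩ : ↥(commutator Fi24)) X' from hX' ▸ Subtype.ext hcomm.eq).map φ
      have h2 : Commute (g * φ ⟨u₀, hu₀m⟩ * g⁻¹) X' := hyx ▸ h1.map (MulAut.conj g).toMonoidHom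
      rw [ap_def φ hu₀m]
      have h3 := congrArg Subtype.val h2.eq
      rw [hX'] at h3
      exact h3
  have hbase : TwoA (ap φ u₀) := by
    have := hgu.conj (g : Fi24)⁻¹
    simpa [mul_assoc] using this
  -- every product is conjugate to it by an even element
  obtain ⟨w₁, hw₁d, hw₁e⟩ := pair_conj hd he hne hde
  obtain ⟨w₂, hw₂d, hw₂e⟩ := pair_conj l_mem_D hm4 (gen_ne_l (x := 2) (by norm_num)).symm hc4.symm
  have key : ∀ x, (w₁⁻¹ * w₂) * x * (w₁⁻¹ * w₂)⁻¹ = MulAut.conj (w₁⁻¹ * w₂) x := fun _ => rfl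
  obtain ⟨w, hwm, hw⟩ : ∃ w ∈ commutator Fi24, w * u₀ * w⁻¹ = d * e := by
    have h0 : (w₁⁻¹ * w₂) * u₀ * (w₁⁻¹ * w₂)⁻¹ = d * e := by
      calc (w₁⁻¹ * w₂) * u₀ * (w₁⁻¹ * w₂)⁻¹
          = w₁⁻¹ * ((w₂ * l * w₂⁻¹) * (w₂ * SporFi24.gen 4 * w₂⁻¹)) * w₁ := by rw [hu₀]; group
        _ = w₁⁻¹ * ((w₁ * d * w₁⁻¹) * (w₁ * e * w₁⁻¹)) * w₁ := by rw [hw₂d, hw₂e, hw₁d, hw₁e]
        _ = d * e := by group
    by_cases hm : w₁⁻¹ * w₂ ∈ commutator Fi24
    · exact ⟨_, hm, h0⟩
    · refine ⟨w₁⁻¹ * w₂ * l, mul_l_even hm, ?_⟩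
      have hlu : l * u₀ * l⁻¹ = u₀ := by
        rw [hu₀, mul_inv_eq_iff_eq_mul]
        exact ((Commute.refl l).mul_right hc4.symm).eq
      rw [← h0]
      nth_rewrite 2 [← hlu]
      group
  rw [← hw, ap_mul φ (mul_mem hwm hu₀m) (inv_mem hwm), ap_mul φ hwm hu₀m, ap_inv φ hwm]
  exact hbase.conj _

/-- The base product. -/
noncomputable abbrev t₀ : Fi24 := l * A

theorem t₀_mem : t₀ ∈ commutator Fi24 := D_mul_even l_mem_D A_mem

theorem t₀_comm : Commute t₀ l ∧ Commute t₀ A :=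
  ⟨(Commute.refl l).mul_left A_comm, A_comm.symm.mul_left (Commute.refl A)⟩

theorem bar_t₀ : bar t₀ = SporFi23.t := by rw [bar_mul (Commute.refl l) A_comm, bar_l, one_mul, bar_A]

/-- The elements of the even part fixing both base transpositions. -/
def Fx (u : Fi24) : Prop := u ∈ commutator Fi24 ∧ Commute u l ∧ Commute u A

theorem Fx.mul {u v : Fi24} (hu : Fx u) (hv : Fx v) : Fx (u * v) :=
  ⟨mul_mem hu.1 hv.1, hu.2.1.mul_left hv.2.1, hu.2.2.mul_left hv.2.2⟩

theorem Fx.inv {u : Fi24} (hu : Fx u) : Fx u⁻¹ := ⟨inv_mem hu.1, hu.2.1.inv_left, hu.2.2.inv_left⟩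

theorem Fx_one : Fx 1 := ⟨one_mem _, Commute.one_left _, Commute.one_left _⟩

theorem Fx_t₀ : Fx t₀ := ⟨t₀_mem, t₀_comm⟩

theorem Fx.bar_mem {u : Fi24} (hu : Fx u) : bar u ∈ SporFi23.H :=
  B23.mem_H_of_commute (bar_A ▸ bar_commute hu.2.1 A_comm hu.2.2)

/-- The image in Fi22. -/
noncomputable def rho (u : Fi24) : Fi22 :=
  haveI := Classical.dec (bar u ∈ SporFi23.H)
  if h : bar u ∈ SporFi23.H then SporFi23.toFi22 ⟨bar u, h⟩ else 1

theorem rho_def {u : Fi24} (hu : Fx u) : rho u = SporFi23.toFi22 ⟨bar u, hu.bar_mem⟩ := by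
  simp [rho, hu.bar_mem]

theorem rho_mul {u v : Fi24} (hu : Fx u) (hv : Fx v) : rho (u * v) = rho u * rho v := by
  rw [rho_def hu, rho_def hv, rho_def (hu.mul hv), ← map_mul]
  exact congrArg _ (Subtype.ext (bar_mul hu.2.1 hv.2.1))

theorem rho_one : rho 1 = 1 := by
  rw [rho_def Fx_one]
  exact (congrArg _ (Subtype.ext bar_one)).trans (map_one _)

theorem rho_inv {u : Fi24} (hu : Fx u) : rho u⁻¹ = (rho u)⁻¹ :=
  eq_inv_of_mul_eq_one_left (by rw [← rho_mul hu.inv hu, inv_mul_cancel, rho_one])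

theorem rho_ker {u : Fi24} (hu : Fx u) (h : rho u = 1) : u = 1 ∨ u = t₀ := by
  rw [rho_def hu] at h
  rcases T23.eq_of_image_one h with e | e
  · exact Or.inl (eq_of_bar hu.2.1 (Commute.one_left l) hu.1 (one_mem _) (e.trans bar_one.symm))
  · exact Or.inr (eq_of_bar hu.2.1 t₀_comm.1 hu.1 t₀_mem (e.trans bar_t₀.symm))

theorem rho_t₀ : rho t₀ = 1 := by
  rw [rho_def Fx_t₀]
  have h1 := SporFi23.toFi22_eq SporFi23.t_mem SporFi23.t_induces
  rw [← h1]
  exact congrArg _ (Subtype.ext bar_t₀)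

theorem rho_surj (y : Fi22) : ∃ u, Fx u ∧ rho u = y := by
  obtain ⟨⟨h, hh⟩, rfl⟩ := SporFi23.toFi22_surjective y
  obtain ⟨u, hu, hul, rfl⟩ := bar_surj h
  have hF : Fx u := ⟨hu, hul, commute_of_bar hul A_mem A_comm (bar_A ▸ SporFi23.t_central _ hh)⟩
  exact ⟨u, hF, rho_def hF⟩

/-- A transposition commuting with both base transpositions and different from them. -/
def Com (d e f : Fi24) : Prop := f ∈ D ∧ Commute f d ∧ Commute f e ∧ f ≠ d ∧ f ≠ e

theorem Com.conj {d e f : Fi24} (h : Com d e f) (g : Fi24) :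
    Com (g * d * g⁻¹) (g * e * g⁻¹) (g * f * g⁻¹) :=
  ⟨conj_mem_D h.1 g, h.2.1.map (MulAut.conj g).toMonoidHom, h.2.2.1.map (MulAut.conj g).toMonoidHom,
    fun e' => h.2.2.2.1 ((MulAut.conj g).injective e'), fun e' => h.2.2.2.2 ((MulAut.conj g).injective e')⟩

theorem Com.fx {f : Fi24} (h : Com l A f) : Fx (l * f) :=
  ⟨D_mul_even l_mem_D h.1, (Commute.refl l).mul_left h.2.1, A_comm.symm.mul_left h.2.2.1⟩

theorem rho_isConj {f : Fi24} (h : Com l A f) : IsConj B23.z22 (rho (l * f)) := by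
  have e : bar (l * f) = bar f := by rw [bar_mul (Commute.refl l) h.2.1, bar_l, one_mul]
  rw [rho_def h.fx]
  refine B23.toFi22_isConj (f := ⟨bar (l * f), h.fx.bar_mem⟩) ?_ ?_
  · show bar (l * f) ∈ B23.D
    rw [e]; exact bar_mem_D h.1 h.2.1 h.2.2.2.1
  · show bar (l * f) ≠ SporFi23.t
    rw [e, ← bar_A]
    exact fun e' => h.2.2.2.2 (bar_inj h.1 A_mem h.2.1 A_comm e')

theorem exists_com {y : Fi22} (hy : IsConj B23.z22 y) : ∃ f, Com l A f ∧ rho (l * f) = y := by
  obtain ⟨⟨fb, hfb⟩, hD, hne, rfl⟩ := B23.exists_lift22 hy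
  obtain ⟨f, hf, hfl, hfne, rfl⟩ := exists_lift hD
  have hC : Com l A f := ⟨hf, hfl, commute_of_bar hfl A_mem A_comm (bar_A ▸ SporFi23.t_central _ hfb),
    hfne, fun e => hne (show bar f = SporFi23.t by rw [e, bar_A])⟩
  refine ⟨f, hC, ?_⟩
  rw [rho_def hC.fx]
  exact congrArg _ (Subtype.ext (show bar (l * f) = bar f by rw [bar_mul (Commute.refl l) hfl, bar_l, one_mul]))

theorem exists_com' : ∃ f, Com l A f :=
  let ⟨f, hf, _⟩ := exists_com (y := B23.z22) (IsConj.refl _)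
  ⟨f, hf⟩

/-- An element of odd order commuting with the base product fixes the base pair. -/
theorem fx_of_odd {u : Fi24} (hu : u ∈ commutator Fi24) (hodd : Odd (orderOf u)) (hc : Commute u t₀) :
    Fx u := by
  obtain ⟨c, hc'⟩ : ∃ c, c = MulAut.conj u := ⟨_, rfl⟩
  have hD : ∀ {d}, d ∈ D → c d ∈ D := fun hd => hc' ▸ conj_mem_D hd u
  have h0 : c l * c A = l * A := by
    rw [← map_mul, hc']
    show u * t₀ * u⁻¹ = t₀
    rw [hc.eq, mul_inv_cancel_right]
  rcases eq_pair l_mem_D A_mem (Ne.symm A_ne) A_comm.symm (hD l_mem_D) (hD A_mem)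
    (A_comm.symm.map c.toMonoidHom) h0.symm with ⟨h1, h2⟩ | ⟨h1, h2⟩
  · rw [hc'] at h1 h2
    exact ⟨hu, mul_inv_eq_iff_eq_mul.1 h1, mul_inv_eq_iff_eq_mul.1 h2⟩
  · exfalso
    obtain ⟨m, hm⟩ := hodd
    have h : ∀ n : ℕ, (c ^ (2 * n + 1)) l = A ∧ (c ^ (2 * n + 1)) A = l := by
      intro n
      induction n with
      | zero => simpa using ⟨h1, h2⟩
      | succ n ih =>
        rw [show 2 * (n + 1) + 1 = 1 + 1 + (2 * n + 1) by omega, pow_add, MulAut.mul_apply, MulAut.mul_apply,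
          ih.1, ih.2, pow_add, pow_one, MulAut.mul_apply, MulAut.mul_apply, h2, h1]
        exact ⟨rfl, h2⟩
    have h3 : c ^ (2 * m + 1) = 1 := by rw [hc', ← map_pow, ← hm, pow_orderOf_eq_one, map_one]
    have h4 := (h m).1
    rw [h3, MulAut.one_apply] at h4
    exact A_ne h4.symm

/-- An automorphism fixing the base product preserves the elements fixing the base pair. -/
theorem ap_fx (φ : MulAut ↥(commutator Fi24)) (hφ : ap φ t₀ = t₀) {u : Fi24} (hu : Fx u) :
    Fx (ap φ u) := by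
  haveI := SporFi24.finite
  haveI := SporFi22.isSimpleGroup
  let M : Subgroup Fi24 :=
    { carrier := {v | Fx v ∧ Fx (ap φ v)}
      one_mem' := ⟨Fx_one, by rw [ap_one]; exact Fx_one⟩
      mul_mem' := fun {a b} ha hb => ⟨ha.1.mul hb.1, by rw [ap_mul φ ha.1.1 hb.1.1]; exact ha.2.mul hb.2⟩
      inv_mem' := fun {a} ha => ⟨ha.1.inv, by rw [ap_inv φ ha.1.1]; exact ha.2.inv⟩ }
  let K : Subgroup Fi24 := Subgroup.closure {v | Fx v ∧ Odd (orderOf v)}
  have hKM : K ≤ M := by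
    rw [Subgroup.closure_le]
    rintro v ⟨hv, hvo⟩
    refine ⟨hv, fx_of_odd (ap_mem φ v) (by rw [ap_orderOf φ hv.1]; exact hvo) ?_⟩
    have h1 := ap_commute φ hv.1 t₀_mem (hv.2.1.mul_right hv.2.2)
    rwa [hφ] at h1
  have hKF : ∀ v ∈ K, Fx v := fun v hv => (hKM hv).1
  let N : Subgroup Fi22 :=
    { carrier := {y | ∃ v ∈ K, rho v = y}
      one_mem' := ⟨1, one_mem K, rho_one⟩
      mul_mem' := by
        rintro _ _ ⟨a, ha, rfl⟩ ⟨b, hb, rfl⟩
        exact ⟨a * b, mul_mem ha hb, rho_mul (hKF a ha) (hKF b hb)⟩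
      inv_mem' := by
        rintro _ ⟨a, ha, rfl⟩
        exact ⟨a⁻¹, inv_mem ha, rho_inv (hKF a ha)⟩ }
  have hNn : N.Normal := by
    refine ⟨?_⟩
    rintro _ ⟨v, hv, rfl⟩ y
    obtain ⟨g, hg, rfl⟩ := rho_surj y
    refine ⟨g * v * g⁻¹, ?_, by rw [rho_mul (hg.mul (hKF v hv)) hg.inv, rho_mul hg (hKF v hv), rho_inv hg]⟩
    have : ∀ x ∈ {v | Fx v ∧ Odd (orderOf v)}, g * x * g⁻¹ ∈ {v | Fx v ∧ Odd (orderOf v)} := fun x hx =>
      ⟨(hg.mul hx.1).mul hg.inv, by
        rw [show g * x * g⁻¹ = MulAut.conj g x from rfl, MulEquiv.orderOf_eq]; exact hx.2⟩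
    have h2 : K ≤ K.comap (MulAut.conj g).toMonoidHom := by
      rw [Subgroup.closure_le]
      exact fun x hx => Subgroup.subset_closure (this x hx)
    exact h2 hv
  have hNb : N ≠ ⊥ := by
    obtain ⟨v, hv, hvx⟩ := rho_surj T22.xe
    have hpow : ∀ n : ℕ, Fx (v ^ n) ∧ rho (v ^ n) = T22.xe ^ n := by
      intro n
      induction n with
      | zero => exact ⟨by rw [pow_zero]; exact Fx_one, by rw [pow_zero, pow_zero, rho_one]⟩
      | succ n ih =>
        exact ⟨by rw [pow_succ]; exact ih.1.mul hv, by rw [pow_succ, pow_succ, rho_mul ih.1 hv, ih.2, hvx]⟩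
    have h11 : (v ^ 2) ^ 11 = 1 := by
      rcases rho_ker (hpow 11).1 (by rw [(hpow 11).2, ← T22.orderOf_xe, pow_orderOf_eq_one]) with e | e <;>
        rw [← pow_mul, mul_comm, pow_mul, e]
      · rw [one_pow]
      · rw [pow_two, show l * A * (l * A) = l * (A * l) * A by simp [mul_assoc], A_comm.eq, ← mul_assoc,
          l_mul_self, one_mul, D_mul_self A_mem]
    have hne : rho (v ^ 2) ≠ 1 := by
      rw [(hpow 2).2]
      intro h
      have := orderOf_dvd_of_pow_eq_one h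
      rw [T22.orderOf_xe] at this
      norm_num at this
    have hodd : Odd (orderOf (v ^ 2)) :=
      Odd.of_dvd_nat (by decide) (orderOf_dvd_of_pow_eq_one h11)
    intro hN
    refine hne ?_
    rw [← Subgroup.mem_bot, ← hN]
    exact ⟨_, Subgroup.subset_closure ⟨(hpow 2).1, hodd⟩, rfl⟩
  have hN : N = ⊤ := hNn.eq_bot_or_eq_top.resolve_left hNb
  obtain ⟨v, hv, hvu⟩ : ∃ v ∈ K, rho v = rho u := show rho u ∈ N by rw [hN]; trivial
  rcases rho_ker ((hKF v hv).inv.mul hu) (by rw [rho_mul (hKF v hv).inv hu, rho_inv (hKF v hv), hvu,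
    inv_mul_cancel]) with e | e
  · rw [← inv_mul_eq_one.1 e]; exact (hKM hv).2
  · rw [show u = v * t₀ by rw [← e, mul_inv_cancel_left], ap_mul φ (hKF v hv).1 t₀_mem, hφ]
    exact (hKM hv).2.mul Fx_t₀

/-- The induced map of Fi22 is an automorphism. -/
theorem exists_beta (φ : MulAut ↥(commutator Fi24)) (hφ : ap φ t₀ = t₀) :
    ∃ β : MulAut Fi22, ∀ u, Fx u → β (rho u) = rho (ap φ u) := by
  haveI : Finite Fi22 := SporFi22.card_le.1
  choose sec hsec hrho using rho_surj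
  have key : ∀ u, Fx u → rho (ap φ u) = rho (ap φ (sec (rho u))) := by
    intro u hu
    have hs := hsec (rho u)
    rcases rho_ker (hs.inv.mul hu) (by rw [rho_mul hs.inv hu, rho_inv hs, hrho, inv_mul_cancel]) with e | e
    · rw [inv_mul_eq_one.1 e]
    · have h1 : u = sec (rho u) * t₀ := by rw [← e, mul_inv_cancel_left]
      nth_rewrite 1 [h1]
      rw [ap_mul φ hs.1 t₀_mem, hφ, rho_mul (ap_fx φ hφ hs) Fx_t₀, rho_t₀, mul_one]
  let f : Fi22 →* Fi22 := MonoidHom.mk' (fun y => rho (ap φ (sec y))) fun a b => by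
    show rho (ap φ (sec (a * b))) = rho (ap φ (sec a)) * rho (ap φ (sec b))
    rw [← rho_mul (ap_fx φ hφ (hsec a)) (ap_fx φ hφ (hsec b)), ← ap_mul φ (hsec a).1 (hsec b).1,
      key _ ((hsec a).mul (hsec b)), rho_mul (hsec a) (hsec b), hrho, hrho]
  have hinj : Function.Injective f := (injective_iff_map_eq_one f).2 fun y hy => by
    rw [← hrho y]
    rcases rho_ker (ap_fx φ hφ (hsec y)) hy with e | e
    · rw [show sec y = 1 from ap_inj φ (hsec y).1 (one_mem _) (by rw [e, ap_one]), rho_one]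
    · rw [show sec y = t₀ from ap_inj φ (hsec y).1 t₀_mem (by rw [e, hφ]), rho_t₀]
  exact ⟨MulEquiv.ofBijective f ⟨hinj, Finite.surjective_of_injective hinj⟩, fun u hu => (key u hu).symm⟩

/-- Images of the products with the first base transposition have one of two shapes. -/
theorem shape (φ : MulAut ↥(commutator Fi24)) (hφ : ap φ t₀ = t₀) {f : Fi24} (hf : Com l A f) :
    ∃ f', Com l A f' ∧ (ap φ (l * f) = l * f' ∨ ap φ (l * f) = A * f') := by
  obtain ⟨β, hβ⟩ := exists_beta φ hφ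
  obtain ⟨c, hc⟩ := isConj_iff.1 (rho_isConj hf)
  obtain ⟨p, hp⟩ := T22.apply_zero β
  obtain ⟨v, hv⟩ := T22.act.trans p
  have h1 : IsConj B23.z22 (rho (ap φ (l * f))) := by
    rw [← hβ _ hf.fx, ← hc, map_mul, map_mul, map_inv, hp, ← hv,
      show (⟨0, T22.act.hn⟩ : Fin FiA.table.n) = T22.act.o from rfl, T22.act.d_eq]
    exact isConj_iff.2 ⟨β c * v, by show β c * v * B23.z22 * (β c * v)⁻¹ = _; group; rfl⟩
  obtain ⟨f', hf', hr⟩ := exists_com h1
  refine ⟨f', hf', ?_⟩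
  have hm := ap_fx φ hφ hf.fx
  rcases rho_ker (hf'.fx.inv.mul hm) (by rw [rho_mul hf'.fx.inv hm, rho_inv hf'.fx, hr, inv_mul_cancel])
    with e | e
  · exact Or.inl (inv_mul_eq_one.1 e).symm
  · refine Or.inr ?_
    rw [show ap φ (l * f) = l * f' * t₀ by rw [← e, mul_inv_cancel_left],
      show l * f' * t₀ = l * (f' * l) * A by simp [mul_assoc], hf'.2.1.eq, ← mul_assoc, l_mul_self, one_mul,
      hf'.2.2.1.eq]

/-- One shape occurs for all transpositions. -/
theorem colour (φ : MulAut ↥(commutator Fi24)) (hφ : ap φ t₀ = t₀) :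
    (∀ f, Com l A f → ∃ f', Com l A f' ∧ ap φ (l * f) = l * f') ∨
      (∀ f, Com l A f → ∃ f', Com l A f' ∧ ap φ (l * f) = A * f') := by
  haveI := SporFi22.isSimpleGroup
  obtain ⟨S, hS⟩ : ∃ S : Fi24 → Fi24 → Prop,
      S = fun c f => Com l A f ∧ ∃ f', Com l A f' ∧ ap φ (l * f) = c * f' := ⟨_, rfl⟩
  have mix : ∀ f g, S l f → S A g → Commute f g := by
    intro f g hf hg
    rw [hS] at hf hg
    obtain ⟨hf, f', hf', ef⟩ := hf
    obtain ⟨hg, g', hg', eg⟩ := hg
    by_contra hcon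
    have e0 : l * f * (l * g) = f * g := by
      rw [show l * f * (l * g) = l * (f * l) * g by simp [mul_assoc], hf.2.1.eq, ← mul_assoc l l, l_mul_self, one_mul]
    have hcube : (t₀ * (f' * g')) ^ 3 = 1 := by
      have h1 : ap φ (f * g) = t₀ * (f' * g') := by
        rw [← e0, ap_mul φ hf.fx.1 hg.fx.1, ef, eg, show l * f' * (A * g') = l * (f' * A) * g' by simp [mul_assoc],
          hf'.2.2.1.eq]
        simp [mul_assoc]
      rw [← h1, ← ap_pow φ (D_mul_even hf.1 hg.1), cube_of_not_commute hf.1 hg.1 hcon, ap_one]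
    have hct : Commute t₀ (f' * g') :=
      (hf'.2.1.symm.mul_left hf'.2.2.1.symm).mul_right (hg'.2.1.symm.mul_left hg'.2.2.1.symm)
    rw [hct.mul_pow] at hcube
    have ht3 : t₀ ^ 3 = t₀ := by
      have h2 : t₀ ^ 2 = 1 := by
        rw [A_comm.symm.mul_pow, pow_two, pow_two, l_mul_self, D_mul_self A_mem, one_mul]
      rw [pow_succ, h2, one_mul]
    rw [ht3] at hcube
    rcases three hf'.1 hg'.1 with h | h
    · rw [pow_succ, h, one_mul] at hcube
      have hcf := commute_of_sq (D_mul_self hf'.1) (D_mul_self hg'.1) h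
      have h5 : l * A = f' * g' := by
        have h6 := eq_inv_of_mul_eq_one_left hcube
        rw [mul_inv_rev, D_inv hf'.1, D_inv hg'.1] at h6
        rw [show l * A = g' * f' from h6, hcf.eq]
      rcases eq_pair l_mem_D A_mem (Ne.symm A_ne) A_comm.symm hf'.1 hg'.1 hcf h5 with h7 | h7
      · exact hf'.2.2.2.1 h7.1
      · exact hf'.2.2.2.2 h7.1
    · rw [h, mul_one] at hcube
      exact A_ne (by rw [← inv_eq_of_mul_eq_one_right hcube, l_inv])
  obtain ⟨U, hU⟩ : ∃ U : Fi24 → Subgroup Fi22, U = fun c => Subgroup.closure {y | ∃ f, S c f ∧ rho (l * f) = y} :=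
    ⟨_, rfl⟩
  have hcomm : ∀ a ∈ U l, ∀ b ∈ U A, Commute a b := by
    have h1 : U A ≤ Subgroup.centralizer (U l : Set Fi22) := by
      rw [hU]
      refine (Subgroup.closure_le _).2 ?_
      rintro _ ⟨g, hg, rfl⟩
      rw [SetLike.mem_coe, Subgroup.mem_centralizer_iff]
      intro a ha
      have h2 : Subgroup.closure {y | ∃ f, S l f ∧ rho (l * f) = y} ≤
          Subgroup.centralizer ({rho (l * g)} : Set Fi22) := by
        refine (Subgroup.closure_le _).2 ?_
        rintro _ ⟨f, hf, rfl⟩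
        rw [SetLike.mem_coe, Subgroup.mem_centralizer_singleton_iff]
        have hf1 : Com l A f := by rw [hS] at hf; exact hf.1
        have hg1 : Com l A g := by rw [hS] at hg; exact hg.1
        rw [← rho_mul hf1.fx hg1.fx, ← rho_mul hg1.fx hf1.fx]
        exact congrArg rho (((Commute.refl l).mul_right hg1.2.1.symm).mul_left
          (hf1.2.1.mul_right (mix f g hf hg))).eq
      exact Subgroup.mem_centralizer_singleton_iff.1 (h2 ha)
    exact fun a ha b hb => Subgroup.mem_centralizer_iff.1 (h1 hb) a ha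
  have hgen : ∀ f, Com l A f → S l f ∨ S A f := by
    intro f hf
    obtain ⟨f', hf', e | e⟩ := shape φ hφ hf
    · exact Or.inl (by rw [hS]; exact ⟨hf, f', hf', e⟩)
    · exact Or.inr (by rw [hS]; exact ⟨hf, f', hf', e⟩)
  have htop : U l ⊔ U A = ⊤ := by
    rw [eq_top_iff, ← B23.closure_conj22, Subgroup.closure_le]
    intro y hy
    obtain ⟨f, hf, rfl⟩ := exists_com (show IsConj B23.z22 y from hy)
    rcases hgen f hf with h | h
    · exact Subgroup.mem_sup_left (by rw [hU]; exact Subgroup.subset_closure ⟨f, h, rfl⟩)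
    · exact Subgroup.mem_sup_right (by rw [hU]; exact Subgroup.subset_closure ⟨f, h, rfl⟩)
  have hnorm : (U l).Normal := by
    have h1 : U l ⊔ U A ≤ Subgroup.normalizer (U l : Set Fi22) := by
      refine sup_le Subgroup.le_normalizer fun b hb => ?_
      rw [Subgroup.mem_normalizer_iff]
      intro a
      constructor
      · intro ha
        rwa [← (hcomm a ha b hb).eq, mul_inv_cancel_right]
      · intro ha
        have h2 := hcomm _ ha b hb
        have h3 : b * a * b⁻¹ = a := by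
          calc b * a * b⁻¹ = b⁻¹ * (b * (b * a * b⁻¹)) := by group
            _ = b⁻¹ * (b * a * b⁻¹ * b) := by rw [← h2.eq]
            _ = a := by group
        rwa [h3] at ha
    rw [htop, top_le_iff] at h1
    exact Subgroup.normalizer_eq_top_iff.1 h1
  have hne1 : ∀ f, Com l A f → rho (l * f) ≠ 1 := fun f hf h => by
    obtain ⟨c, hc⟩ := isConj_iff.1 (rho_isConj hf)
    rw [h, mul_inv_eq_one, mul_eq_left] at hc
    exact B23.z22_ne_one hc
  rcases hnorm.eq_bot_or_eq_top with h | h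
  · refine Or.inr fun f hf => ?_
    rcases hgen f hf with hs | hs
    · exfalso
      refine hne1 f hf ?_
      rw [← Subgroup.mem_bot, ← h, hU]
      exact Subgroup.subset_closure ⟨f, hs, rfl⟩
    · rw [hS] at hs; exact hs.2
  · refine Or.inl fun f hf => ?_
    rcases hgen f hf with hs | hs
    · rw [hS] at hs; exact hs.2
    · exfalso
      refine hne1 f hf ?_
      rw [← Subgroup.mem_bot, ← SporFi23.center_Fi22, Subgroup.mem_center_iff]
      intro a
      exact (hcomm a (by rw [h]; trivial) _ (by rw [hU]; exact Subgroup.subset_closure ⟨f, hs, rfl⟩)).eq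

/-- The two shapes for an arbitrary pair. -/
theorem pair_colour (φ : MulAut ↥(commutator Fi24)) {d e d' e' : Fi24} (hd : d ∈ D) (he : e ∈ D)
    (hne : d ≠ e) (hde : Commute d e) (hd' : d' ∈ D) (he' : e' ∈ D) (hne' : d' ≠ e') (hde' : Commute d' e')
    (h : ap φ (d * e) = d' * e') :
    (∀ f, Com d e f → ∃ f', Com d' e' f' ∧ ap φ (d * f) = d' * f') ∨
      (∀ f, Com d e f → ∃ f', Com d' e' f' ∧ ap φ (d * f) = e' * f') := by
  obtain ⟨g, hgd, hge⟩ := pair_conj hd he hne hde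
  obtain ⟨g', hgd', hge'⟩ := pair_conj hd' he' hne' hde'
  obtain ⟨χ, hχ⟩ : ∃ χ, χ = cn g' * (φ * cn g⁻¹) := ⟨_, rfl⟩
  have hap : ∀ {u}, u ∈ commutator Fi24 → ap χ u = g' * ap φ (g⁻¹ * u * g) * g'⁻¹ := fun hu => by
    rw [hχ, ap_cn_mul g' _ hu, ap_mul_cn _ φ hu, inv_inv]
  have hχ0 : ap χ t₀ = t₀ := by
    rw [hap t₀_mem, show g⁻¹ * t₀ * g = d * e by rw [t₀, ← hgd, ← hge]; group, h, t₀, ← hgd', ← hge']
    group
  have back : ∀ {c c' : Fi24}, g' * c' * g'⁻¹ = c → ∀ f, Com d e f →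
      (∀ f₁, Com l A f₁ → ∃ f₂, Com l A f₂ ∧ ap χ (l * f₁) = c * f₂) →
      ∃ f', Com d' e' f' ∧ ap φ (d * f) = c' * f' := by
    intro c c' hcc f hf hall
    have hf1 : Com l A (g * f * g⁻¹) := by rw [← hgd, ← hge]; exact hf.conj g
    obtain ⟨f₂, hf₂, e2⟩ := hall _ hf1
    refine ⟨g'⁻¹ * f₂ * g', ?_, ?_⟩
    · have := hf₂.conj g'⁻¹
      rw [← hgd', ← hge', inv_inv] at this
      simpa [mul_assoc] using this
    · rw [hap hf1.fx.1, show g⁻¹ * (l * (g * f * g⁻¹)) * g = d * f by rw [← hgd]; group, ← hcc] at e2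
      calc ap φ (d * f) = g'⁻¹ * (g' * ap φ (d * f) * g'⁻¹) * g' := by group
        _ = c' * (g'⁻¹ * f₂ * g') := by rw [e2]; group
  rcases colour χ hχ0 with hc | hc
  · exact Or.inl fun f hf => back hgd' f hf hc
  · exact Or.inr fun f hf => back hge' f hf hc

/-- An automorphism preserving the base product and the first shape is a conjugation on the even part
of the centraliser. -/
theorem inner_on_E (φ : MulAut ↥(commutator Fi24)) (hφ : ap φ t₀ = t₀)
    (hl : ∀ f, Com l A f → ∃ f', Com l A f' ∧ ap φ (l * f) = l * f') :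
    ∃ y ∈ commutator Fi24, Commute y l ∧
      ∀ u ∈ commutator Fi24, Commute u l → ap φ u = y * u * y⁻¹ := by
  haveI := SporFi23.finite
  obtain ⟨S, hS⟩ : ∃ S : Fi24 → Prop, S = fun y => ∃ y' z z', (y' ∈ D ∧ Commute y' l ∧ y' ≠ l ∧
      ap φ (l * y) = l * y') ∧ (Com l y z ∧ z' ∈ D ∧ Commute z' l ∧ z' ≠ l ∧ ap φ (l * z) = l * z') :=
    ⟨_, rfl⟩
  have hA : S A := by
    obtain ⟨f, hf⟩ := exists_com'
    obtain ⟨f', hf', e⟩ := hl f hf
    rw [hS]
    exact ⟨A, f, f', ⟨A_mem, A_comm, A_ne, hφ⟩, hf, hf'.1, hf'.2.1, hf'.2.2.2.1, e⟩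
  have step : ∀ y h, y ∈ D → Commute y l → y ≠ l → S y → h ∈ D → Commute h l → h ≠ l →
      Commute y h → S h := by
    intro y h hy hyl hyne hSy hh hhl hhne hyh
    by_cases hhy : h = y
    · rwa [hhy]
    rw [hS] at hSy ⊢
    obtain ⟨y', z, z', ⟨hy', hy'l, hy'ne, ey⟩, hz, hz', hz'l, hz'ne, ez⟩ := hSy
    have hall : ∀ f, Com l y f → ∃ f', Com l y' f' ∧ ap φ (l * f) = l * f' := by
      rcases pair_colour φ l_mem_D hy hyne.symm hyl.symm l_mem_D hy' hy'ne.symm hy'l.symm ey with hc | hc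
      · exact hc
      · exfalso
        obtain ⟨z'', hz'', e⟩ := hc z hz
        rcases eq_pair l_mem_D hz' hz'ne.symm hz'l.symm hy' hz''.1 hz''.2.2.1.symm (ez.symm.trans e) with h1 | h1
        · exact hy'ne h1.1
        · exact hz''.2.2.2.1 h1.2
    obtain ⟨h', hh', eh⟩ := hall h ⟨hh, hhl, hyh.symm, hhne, hhy⟩
    exact ⟨h', y, y', ⟨hh'.1, hh'.2.1, hh'.2.2.2.1, eh⟩, ⟨hy, hyl, hyh, hyne, fun e => hhy e.symm⟩,
      hy', hy'l, hy'ne, ey⟩
  have hSall : ∀ d ∈ B23.D, ∀ h, h ∈ D → Commute h l → h ≠ l → bar h = d → S h := by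
    intro d hd
    refine B23.connected (S := {d | ∀ h, h ∈ D → Commute h l → h ≠ l → bar h = d → S h})
      (bar_mem_D A_mem A_comm A_ne) ?_ ?_ hd
    · intro h hh hhl _ e
      rwa [bar_inj hh A_mem hhl A_comm e]
    · intro a ha haD b hb hab h hh hhl hhne e
      obtain ⟨y, hy, hyl, hyne, rfl⟩ := exists_lift haD
      exact step y h hy hyl hyne (ha y hy hyl hyne rfl) hh hhl hhne
        (commute_of_bar hyl hh hhl (e.symm ▸ hab))
  -- the even part of the centraliser is preserved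
  let M : Subgroup Fi23 :=
    { carrier := {y | ∀ u ∈ commutator Fi24, Commute u l → bar u = y → Commute (ap φ u) l}
      one_mem' := fun u hu hul e => by
        rw [eq_of_bar hul (Commute.one_left l) hu (one_mem _) (e.trans bar_one.symm), ap_one]
        exact Commute.one_left l
      mul_mem' := fun {a b} ha hb u hu hul e => by
        obtain ⟨ua, hua, hual, rfl⟩ := bar_surj a
        obtain ⟨ub, hub, hubl, rfl⟩ := bar_surj b
        rw [eq_of_bar hul (hual.mul_left hubl) hu (mul_mem hua hub) (by rw [e, bar_mul hual hubl]),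
          ap_mul φ hua hub]
        exact (ha ua hua hual rfl).mul_left (hb ub hub hubl rfl)
      inv_mem' := fun {a} ha u hu hul e => by
        obtain ⟨ua, hua, hual, rfl⟩ := bar_surj a
        rw [eq_of_bar hul hual.inv_left hu (inv_mem hua) (by rw [e, bar_inv hual]), ap_inv φ hua]
        exact (ha ua hua hual rfl).inv_left }
  have hM : M = ⊤ := by
    rw [eq_top_iff, ← B23.closure_D, Subgroup.closure_le]
    intro d hd u hu hul e
    obtain ⟨h, hh, hhl, hhne, rfl⟩ := exists_lift hd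
    have h1 := hSall _ hd h hh hhl hhne rfl
    rw [hS] at h1
    obtain ⟨h', z, z', ⟨-, hh'l, -, eh⟩, -⟩ := h1
    rw [eq_of_bar hul ((Commute.refl l).mul_left hhl) hu (D_mul_even l_mem_D hh)
      (by rw [bar_mul (Commute.refl l) hhl, bar_l, one_mul, e]), eh]
    exact (Commute.refl l).mul_left hh'l
  have hpres : ∀ u ∈ commutator Fi24, Commute u l → Commute (ap φ u) l := fun u hu hul =>
    (hM ▸ Subgroup.mem_top (bar u) : bar u ∈ M) u hu hul rfl
  -- the induced automorphism of Fi23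
  choose sec hsecm hsecl hsecb using bar_surj
  have hsec : ∀ u ∈ commutator Fi24, Commute u l → sec (bar u) = u := fun u hu hul =>
    eq_of_bar (hsecl _) hul (hsecm _) hu (hsecb _)
  let f : Fi23 →* Fi23 := MonoidHom.mk' (fun y => bar (ap φ (sec y))) fun a b => by
    show bar (ap φ (sec (a * b))) = bar (ap φ (sec a)) * bar (ap φ (sec b))
    rw [← bar_mul (hpres _ (hsecm a) (hsecl a)) (hpres _ (hsecm b) (hsecl b)), ← ap_mul φ (hsecm a) (hsecm b),
      ← hsec _ (mul_mem (hsecm a) (hsecm b)) ((hsecl a).mul_left (hsecl b)), bar_mul (hsecl a) (hsecl b),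
      hsecb, hsecb]
  have hinj : Function.Injective f := (injective_iff_map_eq_one f).2 fun y hy => by
    have h1 := eq_of_bar (hpres _ (hsecm y) (hsecl y)) (Commute.one_left l) (ap_mem φ _) (one_mem _)
      (hy.trans bar_one.symm)
    rw [← hsecb y, ap_inj φ (hsecm y) (one_mem _) (h1.trans (ap_one φ).symm), bar_one]
  obtain ⟨g, hg⟩ := B23.aut_inner (MulEquiv.ofBijective f ⟨hinj, Finite.surjective_of_injective hinj⟩)
  obtain ⟨y, hym, hyl, rfl⟩ := bar_surj g
  refine ⟨y, hym, hyl, fun u hu hul => ?_⟩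
  refine eq_of_bar (hpres u hu hul) ((hyl.mul_left hul).mul_left hyl.inv_left) (ap_mem φ u)
    (mul_mem (mul_mem hym hu) (inv_mem hym)) ?_
  rw [bar_conj hyl hul]
  have h2 : bar (ap φ (sec (bar u))) = MulAut.conj (bar y) (bar u) := DFunLike.congr_fun hg (bar u)
  rw [hsec u hu hul, MulAut.conj_apply] at h2
  exact h2

/-- Some element commuting with `A` does not commute with `l`. -/
theorem exists_move : ∃ x ∈ commutator Fi24, Commute x A ∧ ¬ Commute x l := by
  obtain ⟨s, hsl, hsA⟩ := exists_swap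
  obtain ⟨d, hd, hdt⟩ : ∃ d ∈ B23.D, ¬ Commute d SporFi23.t := by
    by_contra h
    push Not at h
    have h2 : (⊤ : Subgroup Fi23) ≤ Subgroup.centralizer ({SporFi23.t} : Set Fi23) := by
      rw [← B23.closure_D, Subgroup.closure_le]
      exact fun d hd => Subgroup.mem_centralizer_singleton_iff.2 (h d hd).eq
    have h1 : SporFi23.t ∈ Subgroup.center Fi23 :=
      Subgroup.mem_center_iff.2 fun g => Subgroup.mem_centralizer_singleton_iff.1 (h2 (Subgroup.mem_top g))
    rw [T23.center_Fi23, Subgroup.mem_bot] at h1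
    exact SporFi23.t_ne_one h1
  obtain ⟨w, hw, hwl, -, rfl⟩ := exists_lift hd
  have h0 : ¬ Commute (l * w) A := fun h => hdt (by
    have h1 := bar_commute ((Commute.refl l).mul_left hwl) A_comm h
    rwa [bar_mul (Commute.refl l) hwl, bar_l, one_mul, bar_A] at h1)
  refine ⟨s * (l * w) * s⁻¹, (inferInstance : (commutator Fi24).Normal).conj_mem _
    (D_mul_even l_mem_D hw) s, ?_, fun h => h0 ?_⟩
  · rw [← hsl]; exact ((Commute.refl l).mul_left hwl).map (MulAut.conj s).toMonoidHom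
  · have h' : Commute (s * (l * w) * s⁻¹) (s * A * s⁻¹) := by rw [hsA]; exact h
    have h2 := h'.map (MulAut.conj s⁻¹).toMonoidHom
    simp only [MulEquiv.coe_toMonoidHom, MulAut.conj_apply, inv_inv] at h2
    simpa [mul_assoc] using h2

/-- An automorphism that is the identity on the even centraliser of `l` and a conjugation on that of
`A` is a conjugation. -/
theorem eq_on_generated (φ : MulAut ↥(commutator Fi24)) (c : Fi24)
    (h1 : ∀ u ∈ commutator Fi24, Commute u l → ap φ u = c * u * c⁻¹)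
    (h2 : ∀ u ∈ commutator Fi24, Commute u A → ap φ u = c * u * c⁻¹) :
    ∀ u ∈ commutator Fi24, ap φ u = c * u * c⁻¹ := by
  let K : Subgroup Fi24 :=
    Subgroup.closure {u | u ∈ commutator Fi24 ∧ (Commute u l ∨ Commute u A)}
  have hKG : K ≤ commutator Fi24 := (Subgroup.closure_le _).2 fun u hu => hu.1
  have hnorm : ∀ x ∈ K, l * x * l⁻¹ ∈ K := by
    have h : K ≤ K.comap (MulAut.conj l).toMonoidHom := by
      rw [Subgroup.closure_le]
      rintro u ⟨hu, hul | huA⟩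
      · show l * u * l⁻¹ ∈ K
        rw [← hul.eq, mul_inv_cancel_right]
        exact Subgroup.subset_closure ⟨hu, Or.inl hul⟩
      · refine Subgroup.subset_closure ⟨(inferInstance : (commutator Fi24).Normal).conj_mem u hu l, Or.inr ?_⟩
        exact (A_comm.symm.mul_left huA).mul_left A_comm.symm.inv_left
    exact fun x hx => h hx
  let L : Subgroup Fi24 :=
    { carrier := {x | x ∈ K ∨ x * l ∈ K}
      one_mem' := Or.inl (one_mem K)
      mul_mem' := fun {a b} ha hb => by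
        rcases ha with ha | ha <;> rcases hb with hb | hb
        · exact Or.inl (mul_mem ha hb)
        · exact Or.inr (by rw [mul_assoc]; exact mul_mem ha hb)
        · refine Or.inr ?_
          rw [show a * b * l = a * l * (l * b * l⁻¹) by
            simp [mul_assoc, l_inv, ← mul_assoc l l, l_mul_self]]
          exact mul_mem ha (hnorm b hb)
        · refine Or.inl ?_
          have := mul_mem ha (hnorm _ hb)
          rwa [show a * l * (l * (b * l) * l⁻¹) = a * b by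
            simp [mul_assoc, l_inv, ← mul_assoc l l, l_mul_self]] at this
      inv_mem' := fun {a} ha => by
        rcases ha with ha | ha
        · exact Or.inl (inv_mem ha)
        · refine Or.inr ?_
          have := hnorm _ (inv_mem ha)
          rwa [show l * (a * l)⁻¹ * l⁻¹ = a⁻¹ * l by
            simp [mul_assoc, l_inv, ← mul_assoc l l, l_mul_self]] at this }
  have hHL : SporFi24.H ≤ L := by
    intro h hh
    have hhl := mem_H_iff.1 hh
    by_cases he : h ∈ commutator Fi24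
    · exact Or.inl (Subgroup.subset_closure ⟨he, Or.inl hhl⟩)
    · exact Or.inr (Subgroup.subset_closure ⟨mul_l_even he, Or.inl (hhl.mul_left (Commute.refl l))⟩)
  obtain ⟨x, hx, hxA, hxl⟩ := exists_move
  have hLtop : L = ⊤ := by
    refine (SporFi24.eq_or_eq_top hHL).resolve_left fun h => hxl ?_
    exact mem_H_iff.1 (h ▸ (Or.inl (Subgroup.subset_closure ⟨hx, Or.inr hxA⟩) : x ∈ L))
  intro u hu
  have huK : u ∈ K := by
    rcases (hLtop ▸ Subgroup.mem_top u : u ∈ L) with h | h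
    · exact h
    · exfalso
      refine SporFi24.trans_not_mem_commutator ?_
      have h3 := mul_mem (inv_mem hu) (hKG h)
      rwa [inv_mul_cancel_left] at h3
  clear hx hLtop hu
  induction huK using Subgroup.closure_induction with
  | mem v hv => exact hv.2.elim (h1 v hv.1) (h2 v hv.1)
  | one => rw [ap_one, mul_one, mul_inv_cancel]
  | mul a b ha hb iha ihb => rw [ap_mul φ (hKG ha) (hKG hb), iha, ihb]; group
  | inv a ha iha => rw [ap_inv φ (hKG ha), iha]; group

/-- Every automorphism is a conjugation by an element of Fi24. -/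
theorem exists_conj (φ : MulAut ↥(commutator Fi24)) :
    ∃ g : Fi24, ∀ u ∈ commutator Fi24, ap φ u = g * u * g⁻¹ := by
  -- fix the base product
  obtain ⟨d, hd, e, he, hne, hde, hev⟩ :=
    ap_twoA φ ⟨l, l_mem_D, A, A_mem, Ne.symm A_ne, A_comm.symm, rfl⟩
  obtain ⟨g₁, hgd, hge⟩ := pair_conj hd he hne hde
  obtain ⟨φ₁, hφ₁⟩ : ∃ ψ, ψ = cn g₁ * φ := ⟨_, rfl⟩
  have h10 : ap φ₁ t₀ = t₀ := by
    rw [hφ₁, ap_cn_mul g₁ φ t₀_mem, show ap φ t₀ = d * e from hev, t₀, ← hgd, ← hge]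
    group
  obtain ⟨s, hsl, hsA⟩ := exists_swap
  have hst : s * t₀ * s⁻¹ = t₀ := by
    rw [t₀, show s * (l * A) * s⁻¹ = (s * l * s⁻¹) * (s * A * s⁻¹) by group, hsl, hsA, A_comm.eq]
  -- make the first shape occur
  obtain ⟨c₂, h20, h2l⟩ : ∃ c₂ : Fi24, ap (cn c₂ * φ₁) t₀ = t₀ ∧
      ∀ f, Com l A f → ∃ f', Com l A f' ∧ ap (cn c₂ * φ₁) (l * f) = l * f' := by
    rcases colour φ₁ h10 with hc | hc
    · refine ⟨1, by rw [ap_cn_mul _ _ t₀_mem, h10, one_mul, inv_one, mul_one], fun f hf => ?_⟩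
      obtain ⟨f', hf', e⟩ := hc f hf
      exact ⟨f', hf', by rw [ap_cn_mul _ _ hf.fx.1, e, one_mul, inv_one, mul_one]⟩
    · refine ⟨s, by rw [ap_cn_mul _ _ t₀_mem, h10, hst], fun f hf => ?_⟩
      obtain ⟨f', hf', e⟩ := hc f hf
      refine ⟨s * f' * s⁻¹, ?_, ?_⟩
      · have h := hf'.conj s
        rw [hsl, hsA] at h
        exact ⟨h.1, h.2.2.1, h.2.1, h.2.2.2.2, h.2.2.2.1⟩
      · rw [ap_cn_mul _ _ hf.fx.1, e, ← hsA]; group
  obtain ⟨y, hy, hyl, hyu⟩ := inner_on_E _ h20 h2l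
  -- the identity on the centraliser of `l`
  obtain ⟨φ₃, hφ₃⟩ : ∃ ψ, ψ = cn y⁻¹ * (cn c₂ * φ₁) := ⟨_, rfl⟩
  have h3 : ∀ u ∈ commutator Fi24, Commute u l → ap φ₃ u = u := fun u hu hul => by
    rw [hφ₃, ap_cn_mul _ _ hu, hyu u hu hul]; group
  -- its twist by the exchanging element
  obtain ⟨χ, hχ⟩ : ∃ χ, χ = cn s * (φ₃ * cn s⁻¹) := ⟨_, rfl⟩
  have hχu : ∀ {u}, u ∈ commutator Fi24 → ap χ u = s * ap φ₃ (s⁻¹ * u * s) * s⁻¹ := fun hu => by
    rw [hχ, ap_cn_mul s _ hu, ap_mul_cn _ φ₃ hu, inv_inv]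
  have hfix : ∀ u, Fx u → ap χ u = u := fun u hu => by
    have hm := (inferInstance : (commutator Fi24).Normal).conj_mem u hu.1 s⁻¹
    rw [inv_inv] at hm
    have hc : Commute (s⁻¹ * u * s) l := by
      have h := hu.2.2.map (MulAut.conj s⁻¹).toMonoidHom
      simp only [MulEquiv.coe_toMonoidHom, MulAut.conj_apply, inv_inv] at h
      rw [← hsl] at h
      simpa [mul_assoc] using h
    rw [hχu hu.1, h3 _ hm hc]
    group
  obtain ⟨y', hy', hy'l, hy'u⟩ := inner_on_E χ (hfix _ Fx_t₀) fun f hf => ⟨f, hf, hfix _ hf.fx⟩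
  have hy'2 : y' = 1 ∨ y' = t₀ := by
    have h : bar y' = 1 ∨ bar y' = SporFi23.t := by
      refine B23.eq_of_centralizes fun k hk => ?_
      obtain ⟨u, hu, hul, rfl⟩ := bar_surj k
      have hF : Fx u := ⟨hu, hul, commute_of_bar hul A_mem A_comm (bar_A ▸ SporFi23.t_central _ hk)⟩
      have e := (hy'u u hu hul).symm.trans (hfix u hF)
      rw [mul_inv_eq_iff_eq_mul] at e
      rw [← bar_mul hy'l hul, ← bar_mul hul hy'l, e]
    rcases h with h | h
    · exact Or.inl (eq_of_bar hy'l (Commute.one_left l) hy' (one_mem _) (h.trans bar_one.symm))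
    · exact Or.inr (eq_of_bar hy'l t₀_comm.1 hy' t₀_mem (h.trans bar_t₀.symm))
  -- so the third automorphism is conjugation by `1` or `l`
  obtain ⟨c, hc⟩ : ∃ c : Fi24, ∀ u ∈ commutator Fi24, ap φ₃ u = c * u * c⁻¹ := by
    have hA : ∀ x ∈ commutator Fi24, Commute x A → ap φ₃ x = (s⁻¹ * y' * s) * x * (s⁻¹ * y' * s)⁻¹ := by
      intro x hx hxA
      have hm := (inferInstance : (commutator Fi24).Normal).conj_mem x hx s
      have hl : Commute (s * x * s⁻¹) l := hsA ▸ hxA.map (MulAut.conj s).toMonoidHom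
      have e := hy'u _ hm hl
      rw [hχu hm, show s⁻¹ * (s * x * s⁻¹) * s = x by group] at e
      calc ap φ₃ x = s⁻¹ * (s * ap φ₃ x * s⁻¹) * s := by group
        _ = (s⁻¹ * y' * s) * x * (s⁻¹ * y' * s)⁻¹ := by rw [e]; group
    rcases hy'2 with rfl | rfl
    · refine ⟨1, eq_on_generated φ₃ 1 (fun u hu hul => by rw [h3 u hu hul, one_mul, inv_one, mul_one])
        fun u hu huA => ?_⟩
      rw [hA u hu huA]; group
    · refine ⟨l, eq_on_generated φ₃ l (fun u hu hul => by rw [h3 u hu hul, ← hul.eq, mul_inv_cancel_right])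
        fun u hu huA => ?_⟩
      have hts : s⁻¹ * t₀ * s = t₀ := by nth_rewrite 1 [← hst]; group
      rw [hA u hu huA, hts, t₀]
      calc l * A * u * (l * A)⁻¹ = l * (A * u * A⁻¹) * l⁻¹ := by group
        _ = l * u * l⁻¹ := by rw [← huA.eq, mul_inv_cancel_right]
  refine ⟨(y⁻¹ * c₂ * g₁)⁻¹ * c, fun u hu => ?_⟩
  have e := hc u hu
  rw [hφ₃, hφ₁, ap_cn_mul _ _ hu, ap_cn_mul _ _ hu, ap_cn_mul _ _ hu, inv_inv] at e
  calc ap φ u = (y⁻¹ * c₂ * g₁)⁻¹ * (y⁻¹ * (c₂ * (g₁ * ap φ u * g₁⁻¹) * c₂⁻¹) * y) * (y⁻¹ * c₂ * g₁) := by group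
    _ = (y⁻¹ * c₂ * g₁)⁻¹ * c * u * ((y⁻¹ * c₂ * g₁)⁻¹ * c)⁻¹ := by rw [e]; group

/-- The outer automorphism group of the commutator subgroup of Fi24 has order two. -/
theorem card_out : Nat.card (Cfsg.Out Cfsg.Spor.Fi24') = 2 := by
  have hdec : ∀ φ : MulAut ↥(commutator Fi24), ∃ a : ↥(commutator Fi24),
      φ = MulAut.conj a ∨ φ = MulAut.conj a * cn l := by
    intro φ
    obtain ⟨g, hg⟩ := exists_conj φ
    by_cases hm : g ∈ commutator Fi24
    · refine ⟨⟨g, hm⟩, Or.inl (MulEquiv.ext fun u => Subtype.ext ?_)⟩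
      rw [← ap_def φ u.2, hg u u.2]
      rfl
    · refine ⟨⟨g * l, mul_l_even hm⟩, Or.inr (MulEquiv.ext fun u => Subtype.ext ?_)⟩
      rw [← ap_def φ u.2, hg u u.2, MulAut.mul_apply]
      show g * u * g⁻¹ = g * l * (cn l u : Fi24) * (g * l)⁻¹
      rw [cn, MulAut.conjNormal_apply, l_inv, mul_inv_rev, l_inv]
      calc g * u * g⁻¹ = g * (l * l) * u * (l * l) * g⁻¹ := by rw [l_mul_self, mul_one, mul_one]
        _ = g * l * (l * u * l) * (l * g⁻¹) := by simp [mul_assoc]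
  have hout : cn l ∉ Cfsg.Inn ↥(commutator Fi24) := by
    rintro ⟨a, ha⟩
    have hcent : ∀ u ∈ commutator Fi24, Commute ((a : Fi24)⁻¹ * l) u := by
      intro u hu
      have h : (a : Fi24) * u * (a : Fi24)⁻¹ = l * u * l⁻¹ := by
        have := congrArg (fun ψ : MulAut ↥(commutator Fi24) => ((ψ ⟨u, hu⟩ : ↥(commutator Fi24)) : Fi24)) ha
        simpa [cn, MulAut.conjNormal_apply] using this
      show (a : Fi24)⁻¹ * l * u = u * ((a : Fi24)⁻¹ * l)
      calc (a : Fi24)⁻¹ * l * u = (a : Fi24)⁻¹ * (l * u * l⁻¹) * l := by group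
        _ = u * ((a : Fi24)⁻¹ * l) := by rw [← h]; group
    have hnor : (Subgroup.centralizer (commutator Fi24 : Set Fi24)).Normal := inferInstance
    have hne : (a : Fi24)⁻¹ * l ≠ 1 := fun h => SporFi24.trans_not_mem_commutator
      (show l ∈ commutator Fi24 by rw [← inv_mul_eq_one.1 h]; exact a.2)
    have hle := SporFi24.commutator_le_of_normal hnor fun h => hne (by
      rw [← Subgroup.mem_bot, ← h, Subgroup.mem_centralizer_iff]
      exact fun u hu => ((hcent u hu).eq).symm)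
    obtain ⟨k, hk, hkA, hkl⟩ := exists_move
    refine hkl ?_
    have h3 : Commute k t₀ := Subgroup.mem_centralizer_iff.1 (hle t₀_mem) k hk
    have h4 := h3.mul_right hkA
    rwa [t₀, mul_assoc, D_mul_self A_mem, mul_one] at h4
  refine Nat.card_eq_two_iff.2 ⟨1, QuotientGroup.mk (cn l), fun h => hout ((QuotientGroup.eq_one_iff _).1 h.symm), ?_⟩
  refine Set.eq_univ_of_forall fun q => ?_
  induction q using QuotientGroup.induction_on with
  | _ φ =>
    obtain ⟨a, rfl | rfl⟩ := hdec φ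
    · exact Or.inl ((QuotientGroup.eq_one_iff _).2 (MonoidHom.mem_range.2 ⟨a, rfl⟩))
    · refine Or.inr (Set.mem_singleton_iff.2 ?_)
      rw [QuotientGroup.mk_mul,
        (QuotientGroup.eq_one_iff _).2 (MonoidHom.mem_range.2 ⟨a, rfl⟩ : MulAut.conj a ∈ Cfsg.Inn _), one_mul]

end CfsgLib.StructB.Fi24Out
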