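import Cfsg.Agent.Lib.KnownA.FischerOut.T23Out

/-!
# Facts about the transpositions of the presented Fi23 used for `Out(Fi24') = 2`
-/

set_option autoImplicit false
set_option maxRecDepth 100000
set_option linter.unusedSectionVars false

namespace CfsgLib.StructB.Fi24Out.B23

open CfsgLib.InvChar CfsgLib.InvChar.Coset Cfsg.Spor CfsgLib.KnownA.FischerOut

/-- The transpositions. -/
noncomputable abbrev D : Set Fi23 := conjugatesOf SporFi23.t

theorem gen_mem_D {x : ℕ} (hx : x < 10) : SporFi23.gen x ∈ D := by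
  obtain ⟨p, -, hd⟩ := T23.hStd x (show x < 10 from hx)
  obtain ⟨u, hu⟩ := T23.act.trans p
  rw [show SporFi23.gen x = T23.act.gen x from rfl, ← hd, ← hu,
    show (⟨0, T23.act.hn⟩ : Fin F23.table.n) = T23.act.o from rfl, T23.act.d_eq]
  exact isConj_iff.2 ⟨u, rfl⟩

theorem conj_mem_D {d : Fi23} (hd : d ∈ D) (g : Fi23) : g * d * g⁻¹ ∈ D :=
  (show IsConj SporFi23.t d from hd).trans (isConj_iff.2 ⟨g, rfl⟩)

theorem exists_conj_eq {d e : Fi23} (hd : d ∈ D) (he : e ∈ D) : ∃ g : Fi23, g * d * g⁻¹ = e :=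
  isConj_iff.1 ((show IsConj SporFi23.t d from hd).symm.trans he)

theorem orderOf_D {d : Fi23} (hd : d ∈ D) : orderOf d = 2 := by
  obtain ⟨g, rfl⟩ := isConj_iff.1 (show IsConj SporFi23.t d from hd)
  rw [show g * SporFi23.t * g⁻¹ = MulAut.conj g SporFi23.t from rfl, MulEquiv.orderOf_eq]
  exact SporFi23.orderOf_t

theorem closure_D : Subgroup.closure D = ⊤ := by
  rw [eq_top_iff, ← SporFi23.closure_gen, Subgroup.closure_le]
  rintro _ ⟨x, hx, rfl⟩
  exact Subgroup.subset_closure (gen_mem_D hx)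

/-- The conjugation of a centraliser element of `t` fixes `t`. -/
theorem conj_t {k : Fi23} (hk : k ∈ SporFi23.H) : k * SporFi23.t * k⁻¹ = SporFi23.t := by
  rw [SporFi23.t_central k hk, mul_inv_cancel_right]

theorem mem_H_of_commute {y : Fi23} (h : Commute y SporFi23.t) : y ∈ SporFi23.H := by
  rw [← SporFi23.centralizer_t, Subgroup.mem_centralizer_singleton_iff]
  exact h.eq

theorem conjW_commute {a b : Fi23} :
    Commute (SporFi23.W * a * SporFi23.W⁻¹) (SporFi23.W * b * SporFi23.W⁻¹) ↔ Commute a b := by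
  have : ∀ x, SporFi23.W * x * SporFi23.W⁻¹ = MulAut.conj SporFi23.W x := fun _ => rfl
  rw [this, this, Commute, SemiconjBy, ← map_mul, ← map_mul, (MulAut.conj SporFi23.W).injective.eq_iff]
  rfl

/-- A transposition commuting with `t` is `t` or lies in one orbit of the centraliser. -/
theorem commuting_cases {f : Fi23} (hf : f ∈ D) (hc : Commute f SporFi23.t) :
    f = SporFi23.t ∨
      ∃ k ∈ SporFi23.H, f = k * (SporFi23.W * SporFi23.gen 3 * SporFi23.W⁻¹) * k⁻¹ := by
  obtain ⟨u, hu⟩ := isConj_iff.1 (show IsConj SporFi23.t f from hf)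
  obtain ⟨k, hk, h | h | h⟩ := SporFi23.conj_cases u
  · exact Or.inl (by rw [← hu, h.2, conj_t hk])
  · exfalso
    rw [hu] at h
    have h1 : Commute (SporFi23.W * (SporFi23.gen 0 * SporFi23.gen 1 * SporFi23.gen 0) * SporFi23.W⁻¹)
        (SporFi23.W * SporFi23.gen 1 * SporFi23.W⁻¹) := by
      have h2 := hc.map (MulAut.conj k⁻¹).toMonoidHom
      simp only [MulEquiv.coe_toMonoidHom, MulAut.conj_apply, inv_inv] at h2
      rw [h, show k⁻¹ * SporFi23.t * k = SporFi23.t by
        rw [mul_assoc, ← SporFi23.t_central k hk, inv_mul_cancel_left]] at h2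
      simp only [mul_assoc, inv_mul_cancel_left, inv_mul_cancel, mul_one] at h2
      simpa [SporFi23.t, mul_assoc] using h2
    rw [conjW_commute] at h1
    obtain ⟨a, ha⟩ : ∃ a : Fi23, a = SporFi23.gen 0 * SporFi23.gen 1 := ⟨_, rfl⟩
    have e : a ^ 2 = (a ^ 2)⁻¹ := by
      rw [ha, pow_two, mul_inv_rev, mul_inv_rev, SporFi23.inv_gen, SporFi23.inv_gen]
      have := h1.eq
      simp only [mul_assoc] at this ⊢
      exact this
    have h3 : a ^ 3 = 1 := ha ▸ SporFi23.rel01
    have h4 : a ^ 4 = 1 := by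
      rw [show (4 : ℕ) = 2 + 2 from rfl, pow_add]
      nth_rewrite 2 [e]
      exact mul_inv_cancel _
    have h5 : a = 1 := by
      rw [show (4 : ℕ) = 3 + 1 from rfl, pow_succ, h3, one_mul] at h4
      exact h4
    exact SporFi23.gen_ne 1 0 (by norm_num) (by norm_num) ⟨6, by decide +kernel⟩ (by decide +kernel)
      ((inv_eq_of_mul_eq_one_right (ha ▸ h5)).symm.trans (SporFi23.inv_gen 0))
  · exact Or.inr ⟨k, hk, hu.symm.trans h⟩

theorem gen0_mem_H : SporFi23.gen 0 ∈ SporFi23.H := by
  have := SporFi23.gen_mem (x := 0) (by norm_num)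
  simpa [SporFi23.emb] using this

theorem gen_zero_ne_t : SporFi23.gen 0 ≠ SporFi23.t := by
  intro h
  have hlt : ∀ z ∈ [0], z < 10 := by simp
  obtain ⟨p, hp⟩ : ∃ p : Fin F23.table.n, F23.table.follow SporFi23.tWord p ≠ F23.table.follow [0] p :=
    ⟨⟨6, by decide +kernel⟩, by decide +kernel⟩
  refine hp ?_
  rw [← SporFi23.rep_inv_wprod _ hlt, ← SporFi23.rep_t, ← h]
  simp [wprod, SporFi23.inv_gen]

/-- The transpositions commuting with `t`, other than `t`, form one orbit of the centraliser. -/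
theorem commuting_orbit {f : Fi23} (hf : f ∈ D) (hc : Commute f SporFi23.t) (hne : f ≠ SporFi23.t) :
    ∃ k ∈ SporFi23.H, f = k * SporFi23.gen 0 * k⁻¹ := by
  obtain ⟨k, hk, hk'⟩ := (commuting_cases hf hc).resolve_left hne
  obtain ⟨k0, hk0, hk0'⟩ := (commuting_cases (gen_mem_D (x := 0) (by norm_num))
    (SporFi23.t_central _ gen0_mem_H)).resolve_left gen_zero_ne_t
  refine ⟨k * k0⁻¹, mul_mem hk (inv_mem hk0), ?_⟩
  rw [hk', hk0']
  group

/-- The base transposition of Fi22. -/
noncomputable abbrev z22 : Fi22 := SporFi22.gen 0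

theorem toFi22_gen0 : SporFi23.toFi22 ⟨SporFi23.gen 0, gen0_mem_H⟩ = z22 :=
  SporFi23.toFi22_eq _ (by simpa [SporFi23.emb] using SporFi23.induces_gen (x := 0) (by norm_num))

/-- The image in Fi22 of a transposition commuting with `t` is a transposition. -/
theorem toFi22_isConj {f : ↥SporFi23.H} (hf : (f : Fi23) ∈ D) (hne : (f : Fi23) ≠ SporFi23.t) :
    IsConj z22 (SporFi23.toFi22 f) := by
  obtain ⟨k, hk, hk'⟩ := commuting_orbit hf (SporFi23.t_central _ f.2) hne
  refine isConj_iff.2 ⟨SporFi23.toFi22 ⟨k, hk⟩, ?_⟩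
  rw [← toFi22_gen0, ← map_inv, ← map_mul, ← map_mul]
  exact congrArg _ (Subtype.ext hk'.symm)

/-- A transposition of Fi22 is the image of a transposition commuting with `t`. -/
theorem exists_lift22 {y : Fi22} (hy : IsConj z22 y) :
    ∃ f : ↥SporFi23.H, (f : Fi23) ∈ D ∧ (f : Fi23) ≠ SporFi23.t ∧ SporFi23.toFi22 f = y := by
  obtain ⟨c, hc⟩ := isConj_iff.1 hy
  obtain ⟨k, rfl⟩ := SporFi23.toFi22_surjective c
  refine ⟨k * ⟨SporFi23.gen 0, gen0_mem_H⟩ * k⁻¹, conj_mem_D (gen_mem_D (x := 0) (Nat.succ_pos 9)) _, fun h => ?_, ?_⟩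
  · have h' : (k : Fi23) * SporFi23.gen 0 * (k : Fi23)⁻¹ = SporFi23.t := h
    apply gen_zero_ne_t
    calc SporFi23.gen 0 = (k : Fi23)⁻¹ * ((k : Fi23) * SporFi23.gen 0 * (k : Fi23)⁻¹) * k := by group
      _ = SporFi23.t := by rw [h', mul_assoc, ← SporFi23.t_central _ k.2, inv_mul_cancel_left]
  · rw [map_mul, map_mul, map_inv, toFi22_gen0, hc]

theorem closure_conj22 : Subgroup.closure (conjugatesOf z22) = ⊤ :=
  SporFi22.isThreeTranspositionClass.2.2

theorem z22_ne_one : z22 ≠ 1 := fun h => by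
  have := SporFi22.orderOf_gen_zero
  rw [show SporFi22.gen 0 = z22 from rfl, h, orderOf_one] at this
  omega

/-- Only `1` and `t` centralise the centraliser of `t`. -/
theorem eq_of_centralizes {y : Fi23} (h : ∀ k ∈ SporFi23.H, y * k = k * y) : y = 1 ∨ y = SporFi23.t := by
  have hy : y ∈ SporFi23.H := mem_H_of_commute (h _ SporFi23.t_mem)
  have h1 : SporFi23.toFi22 ⟨y, hy⟩ ∈ Subgroup.center Fi22 := by
    rw [Subgroup.mem_center_iff]
    intro c
    obtain ⟨k, rfl⟩ := SporFi23.toFi22_surjective c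
    rw [← map_mul, ← map_mul]
    exact congrArg _ (Subtype.ext (h k k.2).symm)
  rw [SporFi23.center_Fi22, Subgroup.mem_bot] at h1
  exact T23.eq_of_image_one h1

/-- Some transposition commutes with one of two commuting transpositions only. -/
theorem exists_separating {e f : Fi23} (he : e ∈ D) (hf : f ∈ D) (hc : Commute e f) (hne : e ≠ f) :
    ∃ h ∈ D, Commute h e ∧ ¬ Commute h f := by
  by_contra hcon
  push Not at hcon
  obtain ⟨v, hv⟩ := isConj_iff.1 (show IsConj SporFi23.t e from he)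
  have key : ∀ h ∈ D, Commute h SporFi23.t → Commute h (v⁻¹ * f * v) := by
    intro h hh hht
    have h1 := hcon (v * h * v⁻¹) (conj_mem_D hh v) (by
      rw [← hv]; exact hht.map (MulAut.conj v).toMonoidHom)
    have h2 := h1.map (MulAut.conj v⁻¹).toMonoidHom
    simp only [MulEquiv.coe_toMonoidHom, MulAut.conj_apply, inv_inv] at h2
    simpa [mul_assoc] using h2
  have hft : Commute (v⁻¹ * f * v) SporFi23.t := by
    have h1 := hc.symm.map (MulAut.conj v⁻¹).toMonoidHom
    simp only [MulEquiv.coe_toMonoidHom, MulAut.conj_apply, inv_inv] at h1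
    rw [← hv] at h1
    simpa [mul_assoc] using h1
  have hfH := mem_H_of_commute hft
  have hcent : ∀ k ∈ SporFi23.H, v⁻¹ * f * v * k = k * (v⁻¹ * f * v) := by
    intro k hk
    have h1 : SporFi23.H ≤ Subgroup.centralizer ({v⁻¹ * f * v} : Set Fi23) := by
      rw [SporFi23.H, wordsClosure, Subgroup.closure_le]
      rintro _ ⟨L, hL, rfl⟩
      obtain ⟨x, hx, rfl⟩ :=
        (by decide +kernel : ∀ L ∈ F23.subs, ∃ x < 9, L = [SporFi23.emb.getD x 0]) L hL
      rw [show wprod SporFi23.gen [SporFi23.emb.getD x 0] = SporFi23.gen (SporFi23.emb.getD x 0) by simp [wprod],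
        SetLike.mem_coe, Subgroup.mem_centralizer_singleton_iff]
      exact (key _ (gen_mem_D (SporFi23.emb_lt x hx)) (SporFi23.t_central _ (SporFi23.gen_mem hx))).eq
    exact (Subgroup.mem_centralizer_singleton_iff.1 (h1 hk)).symm
  rcases eq_of_centralizes hcent with h | h
  · have h1 := orderOf_D (conj_mem_D hf v⁻¹)
    rw [inv_inv, h, orderOf_one] at h1
    omega
  · refine hne ?_
    rw [← hv, ← h]
    group

/-- The transpositions commuting with the chosen element of order 11. -/
theorem D_commute_xe {d : Fi23} (hd : d ∈ D) (hc : Commute d T23.xe) :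
    d = SporFi23.gen 2 ∨ d = SporFi23.gen 4 := by
  obtain ⟨g, rfl⟩ := isConj_iff.1 (show IsConj SporFi23.t d from hd)
  have e : g * SporFi23.t * g⁻¹ = T23.act.d (T23.act.rep g T23.act.o) := (T23.act.d_eq g).symm
  rw [e] at hc ⊢
  have hfix : T23.act.rep T23.xe (T23.act.rep g T23.act.o) = T23.act.rep g T23.act.o := by
    refine T23.act.d_injective ?_
    rw [← T23.act.conj_d, ← hc.eq, mul_inv_cancel_right]
  rcases (T23.rep_xe_fix _).1 hfix with h | h
  · exact Or.inl (by rw [h, T23.d_cpt])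
  · exact Or.inr (by rw [h, T23.d_ept])

theorem xe_commute : Commute (SporFi23.gen 2) T23.xe ∧ Commute (SporFi23.gen 4) T23.xe := by
  have key : ∀ i, i = T23.cpt ∨ i = T23.ept → Commute (T23.act.d i) T23.xe := fun i hi => by
    have := T23.act.conj_d T23.xe i
    rw [(T23.rep_xe_fix i).2 hi] at this
    exact (mul_inv_eq_iff_eq_mul.1 this).symm
  exact ⟨T23.d_cpt ▸ key _ (Or.inl rfl), T23.d_ept ▸ key _ (Or.inr rfl)⟩

theorem gen24_commute : Commute (SporFi23.gen 2) (SporFi23.gen 4) := by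
  have h := SporFi23.pres.gen_rel [2, 4, 2, 4] (by decide +kernel)
  simp only [wprod, List.map_cons, List.map_nil, List.prod_cons, List.prod_nil, mul_one, ← mul_assoc] at h
  rw [mul_assoc] at h
  show SporFi23.gen 2 * SporFi23.gen 4 = SporFi23.gen 4 * SporFi23.gen 2
  have := eq_inv_of_mul_eq_one_left h
  rwa [mul_inv_rev, SporFi23.inv_gen, SporFi23.inv_gen] at this

/-- An involution centralising the element of order 11 commutes with the transpositions doing so. -/
theorem involution_commutes {s d : Fi23} (hs : orderOf s = 2) (hsx : Commute s T23.xe) (hd : d ∈ D)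
    (hdx : Commute d T23.xe) : Commute s d := by
  rcases D_commute_xe hd hdx with rfl | rfl <;> rcases T23.involution_cases hs hsx with rfl | rfl | rfl
  exacts [Commute.refl _, gen24_commute.symm, (Commute.refl _).mul_left gen24_commute.symm,
    gen24_commute, Commute.refl _, gen24_commute.mul_left (Commute.refl _)]

/-- An element of order 11 has a power conjugate to the chosen one. -/
theorem exists_pow_conj {y : Fi23} (hy : orderOf y = 11) :
    ∃ (v : Fi23) (k : ℕ), v * y ^ k * v⁻¹ = T23.xe := by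
  haveI := SporFi23.finite
  haveI : Fact (Nat.Prime 11) := ⟨by norm_num⟩
  have hcard : 11 ^ (Nat.card Fi23).factorization 11 = 11 := by
    rw [SporFi23.card_eq.1, show (4089470473293004800 : ℕ) = 11 ^ 1 * 371770043026636800 by norm_num,
      Nat.factorization_mul (by norm_num) (by norm_num), Finsupp.add_apply,
      Nat.Prime.factorization_pow (by norm_num : Nat.Prime 11), Finsupp.single_eq_same,
      Nat.factorization_eq_zero_of_not_dvd (by norm_num), pow_one]
  let P : Sylow 11 Fi23 := Sylow.ofCard (Subgroup.zpowers y) (by rw [Nat.card_zpowers, hy, hcard])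
  let Q : Sylow 11 Fi23 := Sylow.ofCard (Subgroup.zpowers T23.xe)
    (by rw [Nat.card_zpowers, T23.orderOf_xe, hcard])
  obtain ⟨g, hg⟩ := MulAction.exists_smul_eq Fi23 P Q
  have hmem : T23.xe ∈ (Q : Subgroup Fi23) := by simp [Q]
  rw [← hg, Sylow.coe_subgroup_smul, Subgroup.mem_smul_pointwise_iff_exists] at hmem
  obtain ⟨w, hw, hwx⟩ := hmem
  have hw' : w ∈ Subgroup.zpowers y := by simpa [P] using hw
  classical
  rw [mem_zpowers_iff_mem_range_orderOf] at hw'
  simp only [Finset.mem_image, Finset.mem_range] at hw'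
  obtain ⟨k, -, rfl⟩ := hw'
  exact ⟨g, k, hwx⟩

/-- A commuting relation between the third generator and the others. -/
theorem third_witness : ∀ x < 10, ([x, 2, x, 2] ∈ F23.rels ∨ [2, x, 2, x] ∈ F23.rels) ∨ x = 2 ∨
    ∃ w < 10, w ≠ 2 ∧ ([x, w, x, w] ∈ F23.rels ∨ [w, x, w, x] ∈ F23.rels) ∧
      ([w, 2, w, 2] ∈ F23.rels ∨ [2, w, 2, w] ∈ F23.rels) := by
  decide +kernel

theorem commute_of_rel {a b : ℕ} (h : [a, b, a, b] ∈ F23.rels ∨ [b, a, b, a] ∈ F23.rels) :
    Commute (SporFi23.gen a) (SporFi23.gen b) := by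
  have main : ∀ a b : ℕ, [a, b, a, b] ∈ F23.rels → Commute (SporFi23.gen a) (SporFi23.gen b) := by
    intro a b hr
    have h := SporFi23.pres.gen_rel _ hr
    simp only [wprod, List.map_cons, List.map_nil, List.prod_cons, List.prod_nil, mul_one, ← mul_assoc] at h
    rw [mul_assoc] at h
    show SporFi23.gen a * SporFi23.gen b = SporFi23.gen b * SporFi23.gen a
    have := eq_inv_of_mul_eq_one_left h
    rwa [mul_inv_rev, SporFi23.inv_gen, SporFi23.inv_gen] at this
  rcases h with h | h
  exacts [main _ _ h, (main _ _ h).symm]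

/-- The commuting graph of the transpositions is connected. -/
theorem connected {S : Set Fi23} {d : Fi23} (hd : d ∈ D) (hdS : d ∈ S)
    (hS : ∀ a ∈ S, a ∈ D → ∀ b ∈ D, Commute a b → b ∈ S) {e : Fi23} (he : e ∈ D) : e ∈ S := by
  obtain ⟨r, hr⟩ : ∃ r : Fi23 → Fi23 → Prop, r = fun a b => a ∈ D ∧ b ∈ D ∧ Commute a b := ⟨_, rfl⟩
  suffices h : Relation.ReflTransGen r d e by
    clear he
    induction h with
    | refl => exact hdS
    | tail _ hab ih =>
      rw [hr] at hab
      exact hS _ ih hab.1 _ hab.2.1 hab.2.2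
  have hconj : ∀ (g a b : Fi23), Relation.ReflTransGen r a b →
      Relation.ReflTransGen r (g * a * g⁻¹) (g * b * g⁻¹) := by
    intro g a b h
    induction h with
    | refl => exact .refl
    | tail _ hab ih =>
      rw [hr] at hab
      refine ih.tail ?_
      rw [hr]
      exact ⟨conj_mem_D hab.1 g, conj_mem_D hab.2.1 g, hab.2.2.map (MulAut.conj g).toMonoidHom⟩
  obtain ⟨c, hc⟩ : ∃ c : Fi23, c = SporFi23.gen 2 := ⟨_, rfl⟩
  have hcD : c ∈ D := hc ▸ gen_mem_D (by norm_num)
  have hall : ∀ g : Fi23, Relation.ReflTransGen r c (g * c * g⁻¹) := by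
    have hsymm : ∀ {a b}, Relation.ReflTransGen r a b → Relation.ReflTransGen r b a := by
      intro a b h
      induction h with
      | refl => exact .refl
      | tail _ hab ih =>
        rw [hr] at hab
        exact (Relation.ReflTransGen.single (by rw [hr]; exact ⟨hab.2.1, hab.1, hab.2.2.symm⟩)).trans ih
    let K : Subgroup Fi23 :=
      { carrier := {g | Relation.ReflTransGen r c (g * c * g⁻¹)}
        one_mem' := by
          show Relation.ReflTransGen r c (1 * c * 1⁻¹)
          rw [one_mul, inv_one, mul_one]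
        mul_mem' := fun {g h} (hg : Relation.ReflTransGen r c (g * c * g⁻¹))
            (hh : Relation.ReflTransGen r c (h * c * h⁻¹)) => by
          show Relation.ReflTransGen r c (g * h * c * (g * h)⁻¹)
          rw [show g * h * c * (g * h)⁻¹ = g * (h * c * h⁻¹) * g⁻¹ by group]
          exact hg.trans (hconj g _ _ hh)
        inv_mem' := fun {g} (hg : Relation.ReflTransGen r c (g * c * g⁻¹)) => by
          show Relation.ReflTransGen r c (g⁻¹ * c * g⁻¹⁻¹)
          have := hsymm (hconj g⁻¹ _ _ hg)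
          rwa [show g⁻¹ * (g * c * g⁻¹) * g⁻¹⁻¹ = c by group] at this }
    suffices hK : K = ⊤ by intro g; exact (hK ▸ Subgroup.mem_top g : g ∈ K)
    rw [eq_top_iff, ← SporFi23.closure_gen, Subgroup.closure_le]
    rintro _ ⟨x, hx, rfl⟩
    have hx : x < 10 := hx
    show Relation.ReflTransGen r c (SporFi23.gen x * c * (SporFi23.gen x)⁻¹)
    rcases third_witness x hx with h | h | ⟨w, hw, -, hxw, hw2⟩
    · rw [hc, (commute_of_rel h).eq, mul_inv_cancel_right]
    · subst h; rw [hc, mul_inv_cancel_right]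
    · have h1 := commute_of_rel hxw
      have h2 := commute_of_rel hw2
      refine (Relation.ReflTransGen.single (b := SporFi23.gen w) ?_).tail ?_ <;> rw [hr]
      · exact ⟨hcD, gen_mem_D hw, hc ▸ h2.symm⟩
      · refine ⟨gen_mem_D hw, conj_mem_D hcD _, ?_⟩
        rw [hc]
        exact (h1.symm.mul_right h2).mul_right (h1.symm.inv_right)
  obtain ⟨g, hg⟩ := exists_conj_eq hcD hd
  obtain ⟨g', hg'⟩ := exists_conj_eq hcD he
  have h1 := hconj g _ _ (hall (g⁻¹ * g'))
  rwa [hg, show g * (g⁻¹ * g' * c * (g⁻¹ * g')⁻¹) * g⁻¹ = g' * c * g'⁻¹ by group, hg'] at h1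

/-- An automorphism is inner. -/
theorem aut_inner (φ : MulAut Fi23) : ∃ g : Fi23, φ = MulAut.conj g := by
  haveI := (Nat.card_eq_one_iff_unique.1 T23.card_out).1
  have h : (QuotientGroup.mk φ : Cfsg.Out Fi23) = QuotientGroup.mk 1 := Subsingleton.elim _ _
  rw [QuotientGroup.eq] at h
  obtain ⟨g, hg⟩ := MonoidHom.mem_range.1 h
  refine ⟨g⁻¹, ?_⟩
  rw [map_inv, hg, mul_one, inv_inv]

end CfsgLib.StructB.Fi24Out.B23
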