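import Cfsg.Agent.Lib.InvChar.SporFi24Trans
import Cfsg.Agent.Lib.StructB.Fi24Out.Fi23Facts

/-!
# The transpositions of the presented Fi24: commuting pairs and their products
-/

set_option autoImplicit false
set_option maxRecDepth 100000
set_option linter.unusedSectionVars false

namespace CfsgLib.StructB.Fi24Out

open CfsgLib.InvChar CfsgLib.InvChar.Coset Cfsg.Spor CfsgLib.KnownA.FischerOut

/-- The base transposition. -/
noncomputable abbrev l : Fi24 := SporFi24.gen 0

/-- The transpositions. -/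
noncomputable abbrev D : Set Fi24 := conjugatesOf l

theorem l_mul_self : l * l = 1 := SporFi24.gen_mul_self 0

theorem l_inv : l⁻¹ = l := SporFi24.gen_inv 0

theorem l_mem_D : l ∈ D := mem_conjugatesOf_self

theorem conj_mem_D {d : Fi24} (hd : d ∈ D) (g : Fi24) : g * d * g⁻¹ ∈ D :=
  (show IsConj l d from hd).trans (isConj_iff.2 ⟨g, rfl⟩)

theorem orderOf_D {d : Fi24} (hd : d ∈ D) : orderOf d = 2 := by
  obtain ⟨g, rfl⟩ := isConj_iff.1 (show IsConj l d from hd)
  rw [show g * l * g⁻¹ = MulAut.conj g l from rfl, MulEquiv.orderOf_eq]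
  exact SporFi24.orderOf_trans

theorem D_mul_self {d : Fi24} (hd : d ∈ D) : d * d = 1 := by
  rw [← pow_two, ← orderOf_D hd, pow_orderOf_eq_one]

theorem D_inv {d : Fi24} (hd : d ∈ D) : d⁻¹ = d := inv_eq_of_mul_eq_one_right (D_mul_self hd)

theorem D_not_even {d : Fi24} (hd : d ∈ D) : d ∉ commutator Fi24 := by
  obtain ⟨g, rfl⟩ := isConj_iff.1 (show IsConj l d from hd)
  intro h
  have h1 := (inferInstance : (commutator Fi24).Normal).conj_mem _ h g⁻¹
  refine SporFi24.trans_not_mem_commutator ?_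
  simpa [mul_assoc] using h1

theorem mul_even {a b : Fi24} (ha : a ∉ commutator Fi24) (hb : b ∉ commutator Fi24) :
    a * b ∈ commutator Fi24 :=
  (Subgroup.mul_mem_iff_of_index_two Cfsg.Agent.S1691.result).2 (by simp [ha, hb])

theorem D_mul_even {d e : Fi24} (hd : d ∈ D) (he : e ∈ D) : d * e ∈ commutator Fi24 :=
  mul_even (D_not_even hd) (D_not_even he)

theorem mul_l_even {a : Fi24} (ha : a ∉ commutator Fi24) : a * l ∈ commutator Fi24 :=
  mul_even ha SporFi24.trans_not_mem_commutator

theorem three {d e : Fi24} (hd : d ∈ D) (he : e ∈ D) : (d * e) ^ 2 = 1 ∨ (d * e) ^ 3 = 1 :=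
  SporFi24.isThreeTranspositionClass.1.2 d hd e he

theorem commute_of_sq {K : Type*} [Group K] {a b : K} (ha : a * a = 1) (hb : b * b = 1)
    (h : (a * b) ^ 2 = 1) : Commute a b := by
  rw [pow_two] at h
  have := eq_inv_of_mul_eq_one_left h
  rw [mul_inv_rev, inv_eq_of_mul_eq_one_right ha, inv_eq_of_mul_eq_one_right hb] at this
  exact this

theorem cube_of_not_commute {d e : Fi24} (hd : d ∈ D) (he : e ∈ D) (h : ¬ Commute d e) :
    (d * e) ^ 3 = 1 :=
  (three hd he).resolve_left fun h2 => h (commute_of_sq (D_mul_self hd) (D_mul_self he) h2)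

theorem braid {K : Type*} [Group K] {a b : K} (ha : a * a = 1) (hb : b * b = 1) (h : (a * b) ^ 3 = 1) :
    a * b * a = b * a * b := by
  rw [pow_succ, pow_two] at h
  have h' : (a * b * a) * (b * a * b) = 1 := by simpa [mul_assoc] using h
  rw [eq_inv_of_mul_eq_one_left h', mul_inv_rev, mul_inv_rev, inv_eq_of_mul_eq_one_right ha,
    inv_eq_of_mul_eq_one_right hb, mul_assoc]

theorem mem_H_iff {g : Fi24} : g ∈ SporFi24.H ↔ Commute g l := by
  rw [← SporFi24.centralizer_trans, Subgroup.mem_centralizer_singleton_iff]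
  rfl

/-- The map to Fi23 on the centraliser of the base transposition. -/
noncomputable def bar (h : Fi24) : Fi23 :=
  haveI := Classical.dec (h ∈ SporFi24.H)
  if hh : h ∈ SporFi24.H then SporFi24.toFi23 ⟨h, hh⟩ else 1

theorem bar_def {h : Fi24} (hh : Commute h l) : bar h = SporFi24.toFi23 ⟨h, mem_H_iff.2 hh⟩ := by
  simp [bar, mem_H_iff.2 hh]

theorem bar_mul {a b : Fi24} (ha : Commute a l) (hb : Commute b l) : bar (a * b) = bar a * bar b := by
  rw [bar_def ha, bar_def hb, bar_def (ha.mul_left hb), ← map_mul]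
  rfl

theorem bar_inv {a : Fi24} (ha : Commute a l) : bar a⁻¹ = (bar a)⁻¹ := by
  rw [bar_def ha, bar_def ha.inv_left, ← map_inv]
  rfl

theorem bar_l : bar l = 1 := by
  rw [bar_def (Commute.refl l)]
  exact SporFi24.toFi23_zH

theorem bar_one : bar 1 = 1 := by
  rw [bar_def (Commute.one_left l)]
  exact map_one _

theorem eq_of_bar_one {a : Fi24} (ha : Commute a l) (h : bar a = 1) : a = 1 ∨ a = l := by
  rw [bar_def ha] at h
  by_cases h1 : a = 1
  · exact Or.inl h1
  · exact Or.inr (congrArg Subtype.val (SporFi24.eq_zH_of_ker h fun e => h1 (congrArg Subtype.val e)))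

/-- The map is injective on even elements. -/
theorem eq_of_bar {a b : Fi24} (ha : Commute a l) (hb : Commute b l) (ha' : a ∈ commutator Fi24)
    (hb' : b ∈ commutator Fi24) (h : bar a = bar b) : a = b := by
  rcases eq_of_bar_one (ha.inv_left.mul_left hb)
    (by rw [bar_mul ha.inv_left hb, bar_inv ha, h, inv_mul_cancel]) with e | e
  · exact inv_mul_eq_one.1 e
  · refine absurd ?_ SporFi24.trans_not_mem_commutator
    show l ∈ commutator Fi24
    rw [← e]
    exact mul_mem (inv_mem ha') hb'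

theorem bar_surj (y : Fi23) : ∃ u : Fi24, u ∈ commutator Fi24 ∧ Commute u l ∧ bar u = y := by
  obtain ⟨⟨h, hh⟩, rfl⟩ := SporFi24.toFi23_surjective y
  by_cases hc : h ∈ commutator Fi24
  · exact ⟨h, hc, mem_H_iff.1 hh, by rw [bar_def (mem_H_iff.1 hh)]⟩
  · refine ⟨h * l, mul_l_even hc, (mem_H_iff.1 hh).mul_left (Commute.refl l), ?_⟩
    rw [bar_mul (mem_H_iff.1 hh) (Commute.refl l), bar_l, mul_one, bar_def (mem_H_iff.1 hh)]

theorem gen_comm_l {x : ℕ} (hx : x < 10) : Commute (SporFi24.gen (x + 2)) l :=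
  mem_H_iff.1 (SporFi24.gen_mem_H (SporFi24.mem_HL_of_lt hx))

theorem bar_gen {x : ℕ} (hx : x < 10) : bar (SporFi24.gen (x + 2)) = SporFi23.gen x := by
  rw [bar_def (gen_comm_l hx)]
  exact SporFi24.toFi23_eq _ (SporFi24.induces_gen hx)

theorem gen_ne_l {x : ℕ} (hx : x < 10) : SporFi24.gen (x + 2) ≠ l := fun h => by
  have h1 := bar_gen hx
  rw [h, bar_l] at h1
  have h2 := B23.orderOf_D (B23.gen_mem_D hx)
  rw [← h1, orderOf_one] at h2
  omega

theorem gk_not_mem : SporFi24.gk ∉ SporFi24.H := fun hk => by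
  have h0 := SporFi24.rep_gen_apply (x := 1) (by norm_num) (SporFi24.pt 0)
  rw [SporFi24.H_fix hk] at h0
  exact absurd h0 (by simp only [SporFi24.pt]; decide +kernel)

theorem gk_mul_self : SporFi24.gk * SporFi24.gk = 1 := SporFi24.gen_mul_self 1

/-- A transposition commuting with `l` is `l` or lies in one orbit of the centraliser. -/
theorem comm_cases {e : Fi24} (he : e ∈ D) (hc : Commute e l) :
    e = l ∨ ∃ k : Fi24, Commute k l ∧ e = k * SporFi24.gen 2 * k⁻¹ := by
  obtain ⟨g, hg⟩ := isConj_iff.1 (show IsConj l e from he)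
  obtain ⟨h, hh, e1 | e1 | e1⟩ := SporFi24.conj_cases g
  · refine Or.inl ?_
    rw [← hg, show g * l * g⁻¹ = h * l * h⁻¹ from e1, (mem_H_iff.1 hh).eq, mul_inv_cancel_right]
  · exfalso
    rw [show g * SporFi24.trans * g⁻¹ = e from hg] at e1
    have hhl := mem_H_iff.1 hh
    have h1 : Commute (SporFi24.gk * l * SporFi24.gk) l := by
      have h2 := hc.map (MulAut.conj h⁻¹).toMonoidHom
      simp only [MulEquiv.coe_toMonoidHom, MulAut.conj_apply, inv_inv] at h2
      rw [e1, show h⁻¹ * l * h = l by rw [mul_assoc, ← hhl.eq, inv_mul_cancel_left]] at h2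
      simpa [mul_assoc] using h2
    rw [SporFi24.klk] at h1
    have h3 := h1.eq
    simp only [mul_assoc, l_mul_self, mul_one] at h3
    rw [← mul_assoc l l, l_mul_self, one_mul] at h3
    exact gk_not_mem (mem_H_iff.2 h3.symm)
  · exact Or.inr ⟨h, mem_H_iff.1 hh, hg.symm.trans e1⟩

theorem bar_conj {k e : Fi24} (hk : Commute k l) (he : Commute e l) :
    bar (k * e * k⁻¹) = bar k * bar e * (bar k)⁻¹ := by
  rw [bar_mul (hk.mul_left he) hk.inv_left, bar_mul hk he, bar_inv hk]

theorem bar_mem_D {e : Fi24} (he : e ∈ D) (hc : Commute e l) (hne : e ≠ l) : bar e ∈ B23.D := by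
  obtain ⟨k, hk, rfl⟩ := (comm_cases he hc).resolve_left hne
  rw [bar_conj hk (gen_comm_l (x := 0) (by norm_num)), bar_gen (x := 0) (by norm_num)]
  exact B23.conj_mem_D (B23.gen_mem_D (by norm_num)) _

theorem braid_mem_D {x y : ℕ} (hx : SporFi24.gen x ∈ D)
    (hr : [x, y, x, y, x, y] ∈ SporFi24.G172.rels ∨ [y, x, y, x, y, x] ∈ SporFi24.G172.rels) : SporFi24.gen y ∈ D := by
  have e : SporFi24.gen x * SporFi24.gen y * SporFi24.gen x * (SporFi24.gen x * SporFi24.gen y)⁻¹ =
      SporFi24.gen y := by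
    rw [SporFi24.gen_braid hr, mul_inv_rev, SporFi24.gen_inv, SporFi24.gen_inv, mul_assoc (SporFi24.gen y * SporFi24.gen x),
      ← mul_assoc (SporFi24.gen y) (SporFi24.gen y), SporFi24.gen_mul_self, one_mul, mul_assoc,
      SporFi24.gen_mul_self, mul_one]
  exact e ▸ conj_mem_D hx _

theorem gen_mem_D {x : ℕ} (hx : x < 10) : SporFi24.gen (x + 2) ∈ D := by
  have h1 := braid_mem_D (y := 1) l_mem_D (by decide +kernel)
  have h2 := braid_mem_D (y := 2) h1 (by decide +kernel)
  have h3 := braid_mem_D (y := 3) h2 (by decide +kernel)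
  have h4 := braid_mem_D (y := 4) h3 (by decide +kernel)
  have h5 := braid_mem_D (y := 5) h4 (by decide +kernel)
  have h6 := braid_mem_D (y := 6) h5 (by decide +kernel)
  have h7 := braid_mem_D (y := 7) h6 (by decide +kernel)
  have h8 := braid_mem_D (y := 8) h7 (by decide +kernel)
  have h9 := braid_mem_D (y := 9) h8 (by decide +kernel)
  have h10 := braid_mem_D (y := 10) h5 (by decide +kernel)
  have h11 := braid_mem_D (y := 11) h10 (by decide +kernel)
  interval_cases x <;> assumption

/-- A transposition of Fi23 comes from one commuting with `l`. -/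
theorem exists_lift {d : Fi23} (hd : d ∈ B23.D) :
    ∃ e : Fi24, e ∈ D ∧ Commute e l ∧ e ≠ l ∧ bar e = d := by
  obtain ⟨y, hy⟩ := B23.exists_conj_eq (B23.gen_mem_D (x := 0) (by norm_num)) hd
  obtain ⟨k, -, hk, rfl⟩ := bar_surj y
  have hc := gen_comm_l (x := 0) (by norm_num)
  refine ⟨k * SporFi24.gen 2 * k⁻¹,
    conj_mem_D (isConj_iff.2 ⟨SporFi24.gm, by rw [SporFi24.gm_inv]; exact SporFi24.gm_zero⟩) _,
    (hk.mul_left hc).mul_left hk.inv_left, fun h => ?_, ?_⟩
  · refine gen_ne_l (x := 0) (by norm_num) ?_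
    calc SporFi24.gen 2 = k⁻¹ * (k * SporFi24.gen 2 * k⁻¹) * k := by group
      _ = l := by rw [h, mul_assoc, ← hk.eq, inv_mul_cancel_left]
  · rw [bar_conj hk hc, bar_gen (x := 0) (by norm_num), hy]

theorem bar_inj {e e' : Fi24} (he : e ∈ D) (he' : e' ∈ D) (hc : Commute e l) (hc' : Commute e' l)
    (h : bar e = bar e') : e = e' := by
  have := eq_of_bar (hc.mul_left (Commute.refl l)) (hc'.mul_left (Commute.refl l))
    (D_mul_even he l_mem_D) (D_mul_even he' l_mem_D)
    (by rw [bar_mul hc (Commute.refl l), bar_mul hc' (Commute.refl l), h])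
  exact mul_right_cancel this

theorem commute_of_bar {u e : Fi24} (hu : Commute u l) (he : e ∈ D) (hc : Commute e l)
    (h : Commute (bar u) (bar e)) : Commute u e := by
  have h1 := bar_inj (conj_mem_D he u) he ((hu.mul_left hc).mul_left hu.inv_left) hc
    (by rw [bar_conj hu hc, h.eq, mul_inv_cancel_right])
  exact mul_inv_eq_iff_eq_mul.1 h1

theorem bar_commute {u e : Fi24} (hu : Commute u l) (hc : Commute e l) (h : Commute u e) :
    Commute (bar u) (bar e) := by
  show bar u * bar e = bar e * bar u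
  rw [← bar_mul hu hc, ← bar_mul hc hu, h.eq]

/-- The second base transposition, over the transposition of Fi23. -/
noncomputable def A : Fi24 := (exists_lift (d := SporFi23.t) mem_conjugatesOf_self).choose

theorem A_mem : A ∈ D := (exists_lift (d := SporFi23.t) mem_conjugatesOf_self).choose_spec.1

theorem A_comm : Commute A l := (exists_lift (d := SporFi23.t) mem_conjugatesOf_self).choose_spec.2.1

theorem A_ne : A ≠ l := (exists_lift (d := SporFi23.t) mem_conjugatesOf_self).choose_spec.2.2.1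

theorem bar_A : bar A = SporFi23.t := (exists_lift (d := SporFi23.t) mem_conjugatesOf_self).choose_spec.2.2.2

/-- Commuting pairs of distinct transpositions are conjugate. -/
theorem pair_conj {d e : Fi24} (hd : d ∈ D) (he : e ∈ D) (hne : d ≠ e) (hc : Commute d e) :
    ∃ g : Fi24, g * d * g⁻¹ = l ∧ g * e * g⁻¹ = A := by
  obtain ⟨g₁, hg⟩ := isConj_iff.1 (show IsConj l d from hd).symm
  have h1 : Commute (g₁ * e * g₁⁻¹) l := by
    rw [← hg]; exact hc.symm.map (MulAut.conj g₁).toMonoidHom
  have h2 : g₁ * e * g₁⁻¹ ≠ l := fun h =>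
    hne ((MulAut.conj g₁).injective (show MulAut.conj g₁ d = MulAut.conj g₁ e from hg.trans h.symm))
  obtain ⟨k, hk, hk'⟩ := (comm_cases (conj_mem_D he g₁) h1).resolve_left h2
  obtain ⟨m, hm, hm'⟩ := (comm_cases A_mem A_comm).resolve_left A_ne
  refine ⟨m * k⁻¹ * g₁, ?_, ?_⟩
  · calc m * k⁻¹ * g₁ * d * (m * k⁻¹ * g₁)⁻¹ = m * k⁻¹ * (g₁ * d * g₁⁻¹) * (m * k⁻¹)⁻¹ := by group
      _ = l := by rw [hg, ((hm.mul_left hk.inv_left)).eq, mul_inv_cancel_right]
  · calc m * k⁻¹ * g₁ * e * (m * k⁻¹ * g₁)⁻¹ = m * k⁻¹ * (g₁ * e * g₁⁻¹) * (m * k⁻¹)⁻¹ := by group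
      _ = A := by rw [hk', hm']; group

/-- An element exchanging the base pair. -/
theorem exists_swap : ∃ s : Fi24, s * l * s⁻¹ = A ∧ s * A * s⁻¹ = l := by
  obtain ⟨g, h1, h2⟩ := pair_conj A_mem l_mem_D A_ne A_comm
  exact ⟨g, h2, h1⟩

/-- A product of two distinct commuting transpositions determines them, base case. -/
theorem eq_pair_base {e f g : Fi24} (he : e ∈ D) (hc : Commute e l) (hne : e ≠ l) (hf : f ∈ D) (hg : g ∈ D)
    (hfg : Commute f g) (h : l * e = f * g) : f = l ∧ g = e ∨ f = e ∧ g = l := by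
  have main : ∀ f g : Fi24, f ∈ D → Commute f g → l * e = f * g → Commute f l ∧ Commute f e := by
    intro f g hf hfg h
    have hft : Commute f (l * e) := h ▸ (Commute.refl f).mul_right hfg
    have hfl : Commute f l := by
      by_contra hcon
      have e1 : e * f * e = l * f * l := by
        calc e * f * e = l * (l * e * f) * e := by
              rw [← mul_assoc, ← mul_assoc, l_mul_self, one_mul]
          _ = l * (f * (l * e)) * e := by rw [← hft.eq]
          _ = l * f * l := by simp [mul_assoc, D_mul_self he]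
      have e2 := braid l_mul_self (D_mul_self hf)
        (cube_of_not_commute l_mem_D hf fun h' => hcon h'.symm)
      by_cases hef : Commute e f
      · rw [hef.eq, mul_assoc, D_mul_self he, mul_one] at e1
        refine hcon ?_
        show f * l = l * f
        nth_rewrite 1 [e1]
        rw [mul_assoc, l_mul_self, mul_one]
      · rw [braid (D_mul_self he) (D_mul_self hf) (cube_of_not_commute he hf hef), e2] at e1
        exact hne (mul_left_cancel (mul_right_cancel e1))
    refine ⟨hfl, ?_⟩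
    have := hfl.mul_right hft
    rwa [← mul_assoc, l_mul_self, one_mul] at this
  obtain ⟨hfl, hfe⟩ := main f g hf hfg h
  obtain ⟨hgl, hge⟩ := main g f hg hfg.symm (h.trans hfg.eq)
  by_cases h1 : f = l
  · subst h1
    exact Or.inl ⟨rfl, (mul_left_cancel h).symm⟩
  by_cases h2 : f = e
  · subst h2
    refine Or.inr ⟨rfl, (mul_left_cancel (a := f) ?_).symm⟩
    rw [← h, hc.eq]
  exfalso
  have hg1 : g ≠ l := fun hg' => by
    subst hg'
    refine h2 (mul_right_cancel (b := l) ?_)
    rw [← h, hc.eq]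
  -- pass to Fi23
  obtain ⟨E, hE⟩ : ∃ x, x = bar e := ⟨_, rfl⟩
  obtain ⟨F, hF⟩ : ∃ x, x = bar f := ⟨_, rfl⟩
  obtain ⟨G, hG⟩ : ∃ x, x = bar g := ⟨_, rfl⟩
  have hEFG : E = F * G := by
    rw [hE, hF, hG, ← bar_mul hfl hgl, ← h, bar_mul (Commute.refl l) hc, bar_l, one_mul]
  have hFG : Commute F G := hF ▸ hG ▸ bar_commute hfl hgl hfg
  have hED : E ∈ B23.D := hE ▸ bar_mem_D he hc hne
  have hFD : F ∈ B23.D := hF ▸ bar_mem_D hf hfl h1
  have hGD : G ∈ B23.D := hG ▸ bar_mem_D hg hgl hg1
  have hEF : E ≠ F := fun e' => h2 (bar_inj hf he hfl hc (hF ▸ hE ▸ e'.symm))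
  obtain ⟨k, hk, hkE, hkF⟩ := B23.exists_separating hED hFD (hEFG ▸ (Commute.refl F).mul_right hFG).symm hEF
  have sq : ∀ {d : Fi23}, d ∈ B23.D → d * d = 1 := fun hd => by
    rw [← pow_two, ← B23.orderOf_D hd, pow_orderOf_eq_one]
  have hG' : G = F * E := by rw [hEFG, ← mul_assoc, sq hFD, one_mul]
  have hFE : Commute F E := hEFG ▸ (Commute.refl F).mul_right hFG
  have hkFE : Commute (k * F) E := hkE.mul_left hFE
  have hE1 : E ≠ 1 := fun e' => by
    have := B23.orderOf_D hED
    rw [e', orderOf_one] at this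
    omega
  have hkF2 : (k * F) ^ 2 ≠ 1 := fun e' => hkF (commute_of_sq (sq hk) (sq hFD) e')
  have hkF3 : (k * F) ^ 3 = 1 :=
    (SporFi23.isThreeTranspositionClass.1.2 k hk F hFD).resolve_left hkF2
  rcases SporFi23.isThreeTranspositionClass.1.2 k hk G hGD with e' | e' <;>
    rw [hG', ← mul_assoc, hkFE.mul_pow] at e'
  · rw [pow_two E, sq hED, mul_one] at e'
    exact hkF2 e'
  · rw [hkF3, one_mul, pow_succ, pow_two, sq hED, one_mul] at e'
    exact hE1 e'

/-- A product of two distinct commuting transpositions determines them. -/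
theorem eq_pair {d e f g : Fi24} (hd : d ∈ D) (he : e ∈ D) (hne : d ≠ e) (hde : Commute d e) (hf : f ∈ D)
    (hg : g ∈ D) (hfg : Commute f g) (h : d * e = f * g) : f = d ∧ g = e ∨ f = e ∧ g = d := by
  obtain ⟨w, hwd, hwe⟩ := pair_conj hd he hne hde
  have hconj : ∀ x : Fi24, w * x * w⁻¹ = MulAut.conj w x := fun _ => rfl
  have h1 := eq_pair_base A_mem A_comm A_ne (conj_mem_D hf w) (conj_mem_D hg w)
    (hfg.map (MulAut.conj w).toMonoidHom) (by
      rw [← hwd, ← hwe, hconj, hconj, hconj, hconj, ← map_mul, ← map_mul, h])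
  rw [← hwd, ← hwe, hconj, hconj, hconj, hconj] at h1
  rcases h1 with ⟨a, b⟩ | ⟨a, b⟩
  · exact Or.inl ⟨(MulAut.conj w).injective a, (MulAut.conj w).injective b⟩
  · exact Or.inr ⟨(MulAut.conj w).injective a, (MulAut.conj w).injective b⟩

/-- Products of two distinct commuting transpositions. -/
def TwoA (u : Fi24) : Prop := ∃ d ∈ D, ∃ e ∈ D, d ≠ e ∧ Commute d e ∧ u = d * e

theorem TwoA.conj {u : Fi24} (h : TwoA u) (g : Fi24) : TwoA (g * u * g⁻¹) := by
  obtain ⟨d, hd, e, he, hne, hc, rfl⟩ := h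
  refine ⟨_, conj_mem_D hd g, _, conj_mem_D he g, fun h' => hne ((MulAut.conj g).injective h'),
    hc.map (MulAut.conj g).toMonoidHom, ?_⟩
  group

theorem exists_X : ∃ X : Fi24, X ∈ commutator Fi24 ∧ Commute X l ∧ bar X = T23.xe := bar_surj _

/-- An element of order 11 commuting with the base transposition. -/
noncomputable def X : Fi24 := exists_X.choose

theorem X_mem : X ∈ commutator Fi24 := exists_X.choose_spec.1

theorem X_comm : Commute X l := exists_X.choose_spec.2.1

theorem bar_X : bar X = T23.xe := exists_X.choose_spec.2.2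

theorem bar_pow {a : Fi24} (ha : Commute a l) (n : ℕ) : bar (a ^ n) = bar a ^ n := by
  induction n with
  | zero => rw [pow_zero, pow_zero, bar_one]
  | succ n ih => rw [pow_succ, pow_succ, bar_mul (ha.pow_left n) ha, ih]

theorem orderOf_bar {a : Fi24} (ha : Commute a l) (ha' : a ∈ commutator Fi24) : orderOf (bar a) = orderOf a := by
  refine Nat.dvd_antisymm ?_ ?_
  · rw [orderOf_dvd_iff_pow_eq_one, ← bar_pow ha, pow_orderOf_eq_one, bar_one]
  · rw [orderOf_dvd_iff_pow_eq_one]
    exact eq_of_bar (ha.pow_left _) (Commute.one_left l) (pow_mem ha' _) (one_mem _)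
      (by rw [bar_pow ha, pow_orderOf_eq_one, bar_one])

theorem orderOf_X : orderOf X = 11 := by
  rw [← orderOf_bar X_comm X_mem, bar_X, T23.orderOf_xe]

/-- The transpositions commuting with the element of order 11 commute with the base transposition. -/
theorem commute_l_of_commute_X {d : Fi24} (hd : d ∈ D) (hc : Commute d X) : Commute d l := by
  haveI := SporFi24.finite
  obtain ⟨g, hg⟩ := isConj_iff.1 (show IsConj l d from hd)
  obtain ⟨h, hh, e1 | e1 | e1⟩ := SporFi24.conj_cases g <;>
    rw [show g * SporFi24.trans * g⁻¹ = d from hg] at e1 <;> have hhl := mem_H_iff.1 hh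
  · rw [e1, show h * SporFi24.trans * h⁻¹ = l from (by rw [show h * SporFi24.trans = l * h from hhl.eq,
      mul_inv_cancel_right])]
  · exfalso
    obtain ⟨Y, hY⟩ : ∃ Y, Y = h⁻¹ * X * h := ⟨_, rfl⟩
    have hYl : Commute Y l := hY ▸ (hhl.inv_left.mul_left X_comm).mul_left hhl
    have hYo : orderOf Y = 11 := by
      rw [hY, show h⁻¹ * X * h = MulAut.conj h⁻¹ X by simp, MulEquiv.orderOf_eq, orderOf_X]
    have hYk : Commute Y (SporFi24.gk * l * SporFi24.gk) := by
      have h2 := hc.symm.map (MulAut.conj h⁻¹).toMonoidHom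
      simp only [MulEquiv.coe_toMonoidHom, MulAut.conj_apply, inv_inv] at h2
      rw [← hY, e1] at h2
      simpa [mul_assoc] using h2
    have hki : SporFi24.gk⁻¹ = SporFi24.gk := inv_eq_of_mul_eq_one_right gk_mul_self
    have hkY : SporFi24.gk⁻¹ * Y * SporFi24.gk ∈ SporFi24.H := by
      rw [mem_H_iff]
      have h3 := hYk.map (MulAut.conj SporFi24.gk⁻¹).toMonoidHom
      simp only [MulEquiv.coe_toMonoidHom, MulAut.conj_apply, inv_inv] at h3
      rw [show SporFi24.gk⁻¹ * (SporFi24.gk * l * SporFi24.gk) * SporFi24.gk =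
        SporFi24.gk⁻¹ * SporFi24.gk * l * (SporFi24.gk * SporFi24.gk) by simp [mul_assoc],
        inv_mul_cancel, one_mul, gk_mul_self, mul_one] at h3
      exact h3
    obtain ⟨c, hc'⟩ : ∃ c, c = SporFi24.cl SporFi24.gk := ⟨_, rfl⟩
    have hstab : (⟨Y, mem_H_iff.2 hYl⟩ : ↥SporFi24.H) ∈ MulAction.stabilizer ↥SporFi24.H c := by
      rw [MulAction.mem_stabilizer_iff, hc']
      show SporFi24.cl (Y * SporFi24.gk) = SporFi24.cl SporFi24.gk
      refine QuotientGroup.eq.2 ?_
      rw [show (Y * SporFi24.gk)⁻¹ * SporFi24.gk = (SporFi24.gk⁻¹ * Y * SporFi24.gk)⁻¹ by group]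
      exact inv_mem hkY
    have hcard : Nat.card (MulAction.stabilizer ↥SporFi24.H c) * 275264 = 2 * 4089470473293004800 := by
      rw [← SporFi24.card_ker.2, ← Subgroup.card_mul_index (MulAction.stabilizer ↥SporFi24.H c),
        MulAction.index_stabilizer, hc', SporFi24.suborbits.1]
    have h11 := orderOf_dvd_natCard (⟨_, hstab⟩ : MulAction.stabilizer ↥SporFi24.H c)
    rw [Subgroup.orderOf_mk, Subgroup.orderOf_mk, hYo] at h11
    have hval : Nat.card (MulAction.stabilizer ↥SporFi24.H c) = 29713078886400 := by omega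
    rw [hval] at h11
    norm_num at h11
  · rw [e1]
    exact (hhl.mul_left (gen_comm_l (x := 0) (by norm_num))).mul_left hhl.inv_left

theorem X_commute : Commute X (SporFi24.gen 4) ∧ Commute X (SporFi24.gen 6) :=
  ⟨commute_of_bar X_comm (gen_mem_D (x := 2) (by norm_num)) (gen_comm_l (x := 2) (by norm_num))
      (by rw [bar_X, bar_gen (x := 2) (by norm_num)]; exact B23.xe_commute.1.symm),
    commute_of_bar X_comm (gen_mem_D (x := 4) (by norm_num)) (gen_comm_l (x := 4) (by norm_num))
      (by rw [bar_X, bar_gen (x := 4) (by norm_num)]; exact B23.xe_commute.2.symm)⟩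

theorem D_commute_X {d : Fi24} (hd : d ∈ D) (hc : Commute d X) :
    d = l ∨ d = SporFi24.gen 4 ∨ d = SporFi24.gen 6 := by
  have hl := commute_l_of_commute_X hd hc
  by_cases h : d = l
  · exact Or.inl h
  have h1 := bar_commute hl X_comm hc
  rw [bar_X] at h1
  rcases B23.D_commute_xe (bar_mem_D hd hl h) h1 with e | e
  · exact Or.inr (Or.inl (bar_inj hd (gen_mem_D (x := 2) (by norm_num)) hl (gen_comm_l (x := 2) (by norm_num))
      (by rw [e, bar_gen (x := 2) (by norm_num)])))
  · exact Or.inr (Or.inr (bar_inj hd (gen_mem_D (x := 4) (by norm_num)) hl (gen_comm_l (x := 4) (by norm_num))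
      (by rw [e, bar_gen (x := 4) (by norm_num)])))

/-- An even involution centralising an element of order 11 does not move the transpositions doing so. -/
theorem no_move {u Y a : Fi24} (hu : u ∈ commutator Fi24) (hu2 : orderOf u = 2) (hul : Commute u l)
    (hY : Y ∈ commutator Fi24) (hY11 : orderOf Y = 11) (hYl : Commute Y l) (huY : Commute u Y)
    (ha : a ∈ D) (hal : Commute a l) (haY : Commute a Y) : Commute u a := by
  by_cases h : a = l
  · exact h ▸ hul
  obtain ⟨v, k, hvk⟩ := B23.exists_pow_conj ((orderOf_bar hYl hY).trans hY11)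
  obtain ⟨s, hs⟩ : ∃ s, s = v * bar u * v⁻¹ := ⟨_, rfl⟩
  have hso : orderOf s = 2 := by
    rw [hs, show v * bar u * v⁻¹ = MulAut.conj v (bar u) from rfl, MulEquiv.orderOf_eq, orderOf_bar hul hu, hu2]
  have hsx : Commute s T23.xe := by
    rw [hs, ← hvk]; exact ((bar_commute hul hYl huY).pow_right k).map (MulAut.conj v).toMonoidHom
  have hdx : Commute (v * bar a * v⁻¹) T23.xe := by
    rw [← hvk]; exact ((bar_commute hal hYl haY).pow_right k).map (MulAut.conj v).toMonoidHom
  have h2 := (B23.involution_commutes hso hsx (B23.conj_mem_D (bar_mem_D ha hal h) v) hdx).map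
    (MulAut.conj v⁻¹).toMonoidHom
  rw [hs] at h2
  simp only [MulEquiv.coe_toMonoidHom, MulAut.conj_apply, inv_inv] at h2
  exact commute_of_bar hul ha hal (by simpa [mul_assoc] using h2)

/-- The even involutions centralising the element of order 11 are products of two transpositions. -/
theorem twoA_of_commute_X {u : Fi24} (hu : u ∈ commutator Fi24) (hu2 : orderOf u = 2) (hc : Commute u X) :
    TwoA u := by
  by_cases hul : Commute u l
  · have h1 : Commute (bar u) T23.xe := bar_X ▸ bar_commute hul X_comm hc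
    have h2 : orderOf (bar u) = 2 := (orderOf_bar hul hu).trans hu2
    have hm4 := gen_mem_D (x := 2) (by norm_num)
    have hm6 := gen_mem_D (x := 4) (by norm_num)
    have hc4 := gen_comm_l (x := 2) (by norm_num)
    have hc6 := gen_comm_l (x := 4) (by norm_num)
    rcases T23.involution_cases h2 h1 with e | e | e
    · refine ⟨l, l_mem_D, _, hm4, (gen_ne_l (x := 2) (by norm_num)).symm, hc4.symm, ?_⟩
      refine eq_of_bar hul ((Commute.refl l).mul_left hc4) hu (D_mul_even l_mem_D hm4) ?_
      rw [e, bar_mul (Commute.refl l) hc4, bar_l, one_mul, bar_gen (x := 2) (by norm_num)]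
    · refine ⟨l, l_mem_D, _, hm6, (gen_ne_l (x := 4) (by norm_num)).symm, hc6.symm, ?_⟩
      refine eq_of_bar hul ((Commute.refl l).mul_left hc6) hu (D_mul_even l_mem_D hm6) ?_
      rw [e, bar_mul (Commute.refl l) hc6, bar_l, one_mul, bar_gen (x := 4) (by norm_num)]
    · refine ⟨_, hm4, _, hm6, fun h => ?_, ?_, ?_⟩
      · have h' := congrArg bar h
        rw [bar_gen (x := 2) (by norm_num), bar_gen (x := 4) (by norm_num)] at h'
        exact SporFi23.gen_ne 2 4 (by norm_num) (by norm_num) ⟨4, by decide +kernel⟩ (by decide +kernel) h'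
      · exact commute_of_bar hc4 hm6 hc6
          (by rw [bar_gen (x := 2) (by norm_num), bar_gen (x := 4) (by norm_num)]; exact B23.gen24_commute)
      · refine eq_of_bar hul (hc4.mul_left hc6) hu (D_mul_even hm4 hm6) ?_
        rw [e, bar_mul hc4 hc6, bar_gen (x := 2) (by norm_num), bar_gen (x := 4) (by norm_num)]
  · exfalso
    have hu' : u⁻¹ = u := inv_eq_of_mul_eq_one_right (by rw [← pow_two, ← hu2, pow_orderOf_eq_one])
    obtain ⟨a, ha⟩ : ∃ a, a = u * l * u⁻¹ := ⟨_, rfl⟩
    have haD : a ∈ D := ha ▸ conj_mem_D l_mem_D u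
    have haX : Commute a X := ha ▸ (hc.mul_left X_comm.symm).mul_left hc.inv_left
    have hal : a ≠ l := fun h => hul (mul_inv_eq_iff_eq_mul.1 (ha.symm.trans h))
    -- the third transposition is fixed
    have hfix : ∀ b c : Fi24, b ∈ D → c ∈ D → b ≠ l → c ≠ l → b ≠ c → Commute b X → Commute c X → a = b →
        Commute u c := by
      intro b c hbD hcD hbl hcl hbc hbX hcX hab
      have hcX' : Commute (u * c * u⁻¹) X := (hc.mul_left hcX).mul_left hc.inv_left
      have key : ∀ x : Fi24, u * x * u⁻¹ = MulAut.conj u x := fun _ => rfl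
      have hub : u * b * u⁻¹ = l := by
        rw [← hab, ha]
        nth_rewrite 2 [hu']
        rw [← mul_assoc, ← mul_assoc, ← pow_two, ← hu2, pow_orderOf_eq_one, one_mul, mul_assoc, hu',
          ← pow_two, ← hu2, pow_orderOf_eq_one, mul_one]
      have h3 := D_commute_X (conj_mem_D hcD u) hcX'
      have hb3 := D_commute_X hbD hbX
      have hc3 := D_commute_X hcD hcX
      have n1 : u * c * u⁻¹ ≠ l := fun h => hbc ((MulAut.conj u).injective (hub.trans h.symm))
      have n2 : u * c * u⁻¹ ≠ b := fun h => hcl ((MulAut.conj u).injective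
        (h.trans (hab.symm.trans ha)))
      refine mul_inv_eq_iff_eq_mul.1 ?_
      rcases h3.resolve_left n1 with e | e <;> rcases hb3.resolve_left hbl with eb | eb <;>
        rcases hc3.resolve_left hcl with ec | ec
      all_goals first
        | exact e.trans ec.symm
        | exact absurd (e.trans eb.symm) n2
        | exact absurd (eb.trans ec.symm) hbc
    have hm4 := gen_mem_D (x := 2) (by norm_num)
    have hm6 := gen_mem_D (x := 4) (by norm_num)
    have h46 : SporFi24.gen 4 ≠ SporFi24.gen 6 := fun h => by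
      have h' := congrArg bar h
      rw [bar_gen (x := 2) (by norm_num), bar_gen (x := 4) (by norm_num)] at h'
      exact SporFi23.gen_ne 2 4 (by norm_num) (by norm_num) ⟨4, by decide +kernel⟩ (by decide +kernel) h'
    obtain ⟨c, hcD, hcX, hcl, hca, huc⟩ : ∃ c ∈ D, Commute c X ∧ c ≠ l ∧ c ≠ a ∧ Commute u c := by
      rcases (D_commute_X haD haX).resolve_left hal with e | e
      · exact ⟨_, hm6, X_commute.2.symm, gen_ne_l (x := 4) (by norm_num), e ▸ h46.symm,
          hfix _ _ hm4 hm6 (gen_ne_l (x := 2) (by norm_num)) (gen_ne_l (x := 4) (by norm_num)) h46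
            X_commute.1.symm X_commute.2.symm e⟩
      · exact ⟨_, hm4, X_commute.1.symm, gen_ne_l (x := 2) (by norm_num), e ▸ h46,
          hfix _ _ hm6 hm4 (gen_ne_l (x := 4) (by norm_num)) (gen_ne_l (x := 2) (by norm_num)) h46.symm
            X_commute.2.symm X_commute.1.symm e⟩
    obtain ⟨g, hg⟩ := isConj_iff.1 (show IsConj l c from hcD).symm
    have hcl' : Commute c l := commute_l_of_commute_X hcD hcX
    have key : ∀ x : Fi24, Commute c x → Commute (g * x * g⁻¹) l := fun x hx =>
      hg ▸ hx.symm.map (MulAut.conj g).toMonoidHom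
    have h := no_move ((inferInstance : (commutator Fi24).Normal).conj_mem u hu g)
      (by rw [show g * u * g⁻¹ = MulAut.conj g u from rfl, MulEquiv.orderOf_eq, hu2]) (key u huc.symm)
      ((inferInstance : (commutator Fi24).Normal).conj_mem X X_mem g)
      (by rw [show g * X * g⁻¹ = MulAut.conj g X from rfl, MulEquiv.orderOf_eq, orderOf_X]) (key X hcX)
      (hc.map (MulAut.conj g).toMonoidHom) (conj_mem_D l_mem_D g) (key l hcl')
      (X_comm.symm.map (MulAut.conj g).toMonoidHom)
    have h' := h.map (MulAut.conj g⁻¹).toMonoidHom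
    simp only [MulEquiv.coe_toMonoidHom, MulAut.conj_apply, inv_inv] at h'
    exact hul (by simpa [mul_assoc] using h')

end CfsgLib.StructB.Fi24Out
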